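import Cfsg.Agent.OddCyclic.EOJ.EE

/-!
# `n ≤ 1`
-/

set_option autoImplicit false
set_option linter.unusedSectionVars false
set_option linter.style.haveILetI false

namespace Cfsg.Agent.OddCyclic.EOJ.Main

open Subgroup Cfsg Cfsg.Agent.ZN Cfsg.Agent.MinSimple.Geo Cfsg.Agent.OddCyclic.GeoC Cfsg.Agent.OddCyclic.BTwoA
  Cfsg.Agent.OddCyclic.EO.Line Cfsg.Agent.OddCyclic.EO.Base Cfsg.Agent.OddCyclic.EO.RepM
  Cfsg.Agent.OddCyclic.EO.Fit Cfsg.Agent.OddCyclic.EO.FitB Cfsg.Agent.OddCyclic.EO.Sit Cfsg.Agent.MinSimple.SecRep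
  Cfsg.Agent.OddCyclic.EO.Two Cfsg.Agent.OddCyclic.EOJ.Loc Cfsg.Agent.OddCyclic.EOJ.Alg
  Cfsg.Agent.OddCyclic.EOJ.Pair Cfsg.Agent.OddCyclic.EOJ.ClaimA Cfsg.Agent.OddCyclic.EOJ.Str
  Cfsg.Agent.OddCyclic.EOJ.Str.St Cfsg.Agent.OddCyclic.EOJ.EE
open Cfsg.Agent.ZN.Block (conj_mem_of_normalizer conj_mem_of_normalizer' le_normalizer_of_forall
  mem_normalizer_of)

universe u

variable {G : Type u} [Group G] [Finite G] {T V : Subgroup G} {z : G} {M X : Type u} [AddCommGroup M] [Group X]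
  [DistribMulAction X M] {n : ℕ} {p q r v f η : G} {R : Rep V p M X} {F : Subgroup X} {g : X} {y0 : M}

/-- **(4.2)** -/
theorem four_two (h : OddN T V z n) (s : St V z n p q r v f R F g y0) (e : Et R g η) :
    Nat.card ↥(ws V (η * r * η⁻¹) ⊓ centralizer ({q} : Set G)) ≤
      4 * Nat.card ↥(ws V r ⊓ ws V (η * r * η⁻¹)) ∧
    (q ∉ tt V 1 p → Nat.card ↥(ws V (η * r * η⁻¹) ⊓ centralizer ({q} : Set G)) ≤
      2 * Nat.card ↥(ws V r ⊓ ws V (η * r * η⁻¹))) := by
  have hp := s.pt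
  have hq := s.pt_q h
  have hc' := s.hc.symm h.toOdd
  have hx1 := x_mem s e
  have hx2 := x_not_cent h s e
  have hcx := col_x s e
  have hDc := fun {f1 : G} (h1 : f1 ∈ ws V q) (h2 : f1 ∉ centralizer (ws V p : Set G)) => D_cent h s e h1 h2
  set x := η * r * η⁻¹ with hx
  have hxp : Pt z x := hcx.pt h.toGeoC
  obtain ⟨M', X', _, _, _, ⟨R'⟩⟩ := exists_rep h.toOdd hq
  haveI : Finite M' := R'.finite_left
  haveI : Finite X' := R'.finite_right
  obtain ⟨F', ft'⟩ := exists_ft h.toOdd hq R'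
  obtain ⟨t, ht, hwt⟩ := exists_last h s.hc
  obtain ⟨g', y0', s'⟩ := exists_st h hc' ht hwt.symm (GP.symm h.toOdd hp s.gp) hx1 hx2 R' ft'
  have tv := s'.tv
  have two := s'.two h
  obtain ⟨f1, hf1, hf1g⟩ := R'.pi_surj (g' • R'.pi v)
  have hf1n : f1 ∉ centralizer (ws V p : Set G) := by
    intro h1
    have h2 : x * f1 = f1 * x := mem_centralizer_iff.mp h1 x hx1
    have h3 := smul_of_comm R' (s'.f_p h) hf1 h2
    rw [hf1g, tv.agc two] at h3
    exact tv.c0 (by simpa using h3)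
  set D := ws V r ⊓ ws V x with hD
  have hDf : ws V x ⊓ centralizer ({f1} : Set G) = D := hDc hf1 hf1n
  set W0 := ws V x ⊓ centralizer ({q} : Set G) with hW0
  have hfixc : ∀ w ∈ W0, R'.rho w • R'.pi v = R'.pi v := by
    intro w hw
    have hwq : w ∈ centralizer ({q} : Set G) := hw.2
    have hxq : x ∈ centralizer ({q} : Set G) := s.le_q h hx1
    have hwx : w * x = x * w := ws_comm h.toOdd hxp hw.1 (self_mem_ws h.toGeoC hxp)
    have h1 : R'.rho w * R'.rho x = R'.rho x * R'.rho w := by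
      rw [← R'.rho_mul w hwq x hxq, ← R'.rho_mul x hxq w hwq, hwx]
    have h2 : R'.rho x • R'.rho w • g' • R'.pi v = R'.rho w • g' • R'.pi v + R'.rho w • R'.pi v := by
      rw [smul_smul, ← h1, mul_smul, tv.agc two, smul_add]
    have hne : R'.rho w • R'.pi v ≠ 0 := fun e => tv.c0 (smul_left_cancel (R'.rho w) (by rw [e, smul_zero]))
    rcases tv.trans two (R'.rho w • g' • R'.pi v) with e1 | e1
    · rw [e1] at h2
      exact absurd (by simpa using h2) hne
    · rw [e1] at h2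
      exact (add_left_cancel h2).symm
  let W1 : Subgroup G :=
    { carrier := {w | w ∈ W0 ∧ R'.rho w • g' • R'.pi v = g' • R'.pi v}
      mul_mem' := by
        rintro a b ⟨ha, ha1⟩ ⟨hb, hb1⟩
        refine ⟨mul_mem ha hb, ?_⟩
        rw [R'.rho_mul a ha.2 b hb.2, mul_smul, hb1, ha1]
      one_mem' := ⟨one_mem _, by rw [R'.rho_one, one_smul]⟩
      inv_mem' := by
        rintro a ⟨ha, ha1⟩
        refine ⟨inv_mem ha, ?_⟩
        rw [R'.rho_inv ha.2, inv_smul_eq_iff, ha1] }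
  have h01 : Nat.card W0 ≤ 2 * Nat.card W1 := by
    refine card_le_two_mul fun a ha b hb han hbn => ⟨mul_mem ha hb, ?_⟩
    have key : ∀ w ∈ W0, w ∉ W1 → R'.rho w • g' • R'.pi v = g' • g' • R'.pi v := fun w hw hwn =>
      (smul_gc' s'.amb tv (hfixc w hw)).resolve_left fun e1 => hwn ⟨hw, e1⟩
    rw [R'.rho_mul a ha.2 b hb.2, mul_smul, key b hb hbn, tv.ggc two, smul_add, hfixc a ha, key a ha han, tv.ggc two,
      ← add_assoc, two, zero_add]
  have hcase : ∀ w ∈ W1, w * f1 * w⁻¹ = f1 ∨ w * f1 * w⁻¹ = q * f1 := by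
    rintro w ⟨hw, hw1⟩
    rw [← hf1g, R'.smul_pi w hw.2 f1 hf1] at hw1
    exact (Rep.pi_eq_pi h.toOdd hq R' (R'.conj_mem hw.2 hf1) hf1).mp hw1
  have hmemD : ∀ w ∈ W1, w * f1 * w⁻¹ = f1 → w ∈ D := by
    intro w hw e1
    rw [← hDf]
    exact ⟨hw.1.1, mem_centralizer_singleton_iff.mpr (mul_inv_eq_iff_eq_mul.mp e1)⟩
  have h1D : Nat.card W1 ≤ 2 * Nat.card D := by
    refine card_le_two_mul fun a ha b hb han hbn => hmemD _ (mul_mem ha hb) ?_
    have ea := (hcase a ha).resolve_left fun e1 => han (hmemD a ha e1)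
    have eb := (hcase b hb).resolve_left fun e1 => hbn (hmemD b hb e1)
    have haq : a * q = q * a := mem_centralizer_singleton_iff.mp ha.1.2
    calc a * b * f1 * (a * b)⁻¹ = a * (b * f1 * b⁻¹) * a⁻¹ := by group
      _ = (a * q) * f1 * a⁻¹ := by rw [eb]; group
      _ = q * (a * f1 * a⁻¹) := by rw [haq]; group
      _ = (q * q) * f1 := by rw [ea, mul_assoc]
      _ = f1 := by rw [Pt.sq h.toGeoC hq, one_mul]
  refine ⟨by omega, fun hqU => ?_⟩
  have h1D' : Nat.card W1 ≤ Nat.card D := by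
    refine card_le_of_le fun w hw => hmemD w hw ((hcase w hw).resolve_right fun e1 => hqU ?_)
    have hwU : w ∈ tt V 1 p := ws_le_tt hcx.walk hw.1.1
    have h2 := conj_mem_tt (c := f1) (mem_centralizer_singleton_iff.mp (s.le_p h hf1)) (inv_mem hwU)
    have h3 : q = w * (f1 * w⁻¹ * f1⁻¹) := by
      calc q = (w * f1 * w⁻¹) * f1⁻¹ := by rw [e1, mul_inv_cancel_right]
        _ = w * (f1 * w⁻¹ * f1⁻¹) := by group
    rw [h3]
    exact mul_mem hwU h2
  omega

/-- `n ≥ 3` -/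
theorem n_three (h : OddN T V z n) (hn : 3 ≤ n) (s : St V z n p q r v f R F g y0) (e : Et R g η) : y0 = 0 := by
  by_contra hy0
  have hee := ee h s e hy0
  obtain ⟨h4, h2⟩ := four_two h s e
  have hcx := col_x s e
  set x := η * r * η⁻¹ with hx
  have hxp : Pt z x := hcx.pt h.toGeoC
  set D := ws V r ⊓ ws V x with hD
  set W0 := ws V x ⊓ centralizer ({q} : Set G) with hW0
  have hall : ws V x ≤ centralizer ({q} : Set G) → False := by
    intro h5
    have h6 : W0 = ws V x := inf_eq_left.mpr h5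
    rw [h6] at h4
    exact hee h4
  by_cases hqU : q ∈ tt V 1 p
  · exact hall fun w hw => mem_centralizer_singleton_iff.mpr
      (tt_comm h hn s.pt (ws_le_tt hcx.walk hw) hqU)
  · have h3 := h2 hqU
    obtain ⟨t, ht, hwt⟩ := exists_last h s.hc
    have hqt : q ∈ ws V t := ht.symm.mem_ws
    by_cases hcom : ∀ a ∈ ws V x, ∀ b ∈ ws V t, a * b = b * a
    · exact hall fun w hw => mem_centralizer_singleton_iff.mpr (hcom w hw q hqt)
    · push Not at hcom
      have hw : Walk V n x t := by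
        have h5 := hcx.symm.walk.trans hwt
        have e1 : 1 + (n - 1) = n := by omega
        rwa [e1] at h5
      have hcr : Crit V z n x t := ⟨hxp, hw, hcom⟩
      obtain ⟨v', gp'⟩ := all_gp h (by omega) hcr
      have h5 : cw V x t ≤ W0 := fun w hw => ⟨hw.1, mem_centralizer_singleton_iff.mpr
        (mem_centralizer_iff.mp hw.2 q hqt).symm⟩
      have h6 := card_le_of_le h5
      have h7 := gp'.cp
      apply hee
      omega

/-! ### `n = 2` -/

theorem gp_uniq (h : Odd T V z) {v' : G} (hc : Crit V z n p q) (gp : GP V p q v) (gp' : GP V p q v') : v = v' := by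
  obtain ⟨a, ha, han⟩ := exists_not_mem hc
  obtain ⟨b, hb, hbn⟩ := exists_not_mem (hc.symm h)
  rw [← gp.mul a ha b hb han hbn, gp'.mul a ha b hb han hbn]

theorem sign1 (h : OddN T V z n) (s : St V z n p q r v f R F g y0) {a b : G} (ha : a ∈ fj R g (R.pi v) y0)
    (hb : b ∈ fj R g (R.pi v) y0) (ha0 : R.pi a ≠ 0) (hab : R.pi a ≠ R.pi b) :
    ∃ k : G, k * p = p * k ∧ k * b = b * k ∧ k * a * k⁻¹ = p * a := by
  have two := s.two h
  set S := sp two (R.pi b) (R.pi b) with hS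
  have hWf : pull R S ≤ fj R g (R.pi v) y0 := by
    rintro w ⟨hw, hwS⟩
    refine ⟨hw, fun k hk => ?_⟩
    have h2 := hb.2 k hk
    rcases hwS with e1 | e1 | e1 | e1
    · rw [e1, smul_zero]
    · rw [e1, h2]
    · rw [e1, h2]
    · rw [e1, smul_add, h2]
  have haW : a ∉ pull R S := by
    rintro ⟨-, h1 | h1 | h1 | h1⟩
    · exact ha0 h1
    · exact hab h1
    · exact hab h1
    · rw [two] at h1; exact ha0 h1
  obtain ⟨k, hk, hkW, hka⟩ := s.sign h hWf (self_mem_pull h.toOdd s.pt R S) ha haW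
  exact ⟨k, mem_centralizer_singleton_iff.mp hk.1, hkW b ⟨hb.1, Or.inr (Or.inl rfl)⟩, hka⟩

/-- three points on lines through `p` -/
theorem tri (h : OddN T V z n) (hn : n = 2) (R : Rep V p M X) (hp : Pt z p) {a b d v1 v2 v3 : G} {c gc : M}
    (y0n : y0 ≠ 0) (hpa : R.pi a = c + y0) (hpb : R.pi b = gc + y0) (hpd : R.pi d = c + gc + y0)
    (ca : Col V p a) (cb : Col V p b) (cd : Col V p d) (hab : Crit V z n a b) (had : Crit V z n a d)
    (hbd : Crit V z n b d) (g1 : GP V a b v1) (g2 : GP V a d v2) (g3 : GP V b d v3) (hc0 : c ≠ 0) (hgc0 : gc ≠ 0)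
    (hcgc : c ≠ gc) : v1 = v2 ∧ v1 = v3 := by
  have two := Rep.two h.toOdd hp R
  have e1 : n - 1 = 1 := by omega
  have wa : Walk V (n - 1) p a := by rw [e1]; exact ca.walk
  have wb : Walk V (n - 1) p b := by rw [e1]; exact cb.walk
  have wd : Walk V (n - 1) p d := by rw [e1]; exact cd.walk
  have ha1 : a ≠ 1 := ca.2.1
  have hb1 : b ≠ 1 := cb.2.1
  have hda : d * a ≠ 1 := by
    intro e
    have e2 := R.pi_mul d cd.mem_ws a ca.mem_ws
    rw [e, R.pi_one, hpd, hpa] at e2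
    apply hgc0
    have e3 : c + gc + y0 + (c + y0) = gc + (c + c) + (y0 + y0) := by abel
    rw [e3, two, two, add_zero, add_zero] at e2
    exact e2.symm
  have hbd' : b ≠ d := by
    intro e
    rw [e, hpd] at hpb
    have := add_right_cancel hpb
    exact hc0 (by simpa using this)
  have hba : b ≠ a := by
    intro e
    rw [e, hpa] at hpb
    exact hcgc (add_right_cancel hpb)
  have hbda : b ≠ d * a := by
    intro e
    have e2 := R.pi_mul d cd.mem_ws a ca.mem_ws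
    rw [← e, hpd, hpa, hpb] at e2
    have e3 : c + gc + y0 + (c + y0) = gc + (c + c) + (y0 + y0) := by abel
    rw [e3, two, two, add_zero, add_zero] at e2
    exact y0n (by simpa using e2)
  have ga := GP.symm h.toOdd hab.pt g1
  have gd := GP.symm h.toOdd had.pt g2
  have gd' := GP.symm h.toOdd hbd.pt g3
  have k1 := y_one h hab ca.symm wb g1 had ca.symm wd g2 (Or.inl rfl)
  have k2 := y_one h (hab.symm h.toOdd) cb.symm wa ga hbd cb.symm wd g3 (Or.inl rfl)
  have k3 := y_one h (had.symm h.toOdd) cd.symm wa gd (hbd.symm h.toOdd) cd.symm wb gd' (Or.inl rfl)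
  rcases k1 with k1 | k1 <;> rcases k2 with k2 | k2
  · exact ⟨k1.symm, k2.symm⟩
  · exfalso
    rcases k3 with k3 | k3
    · rw [k2, k1] at k3
      exact hb1 (by simpa using k3)
    · rw [k2, k1] at k3
      exact hbd' (mul_right_cancel k3)
  · exfalso
    rcases k3 with k3 | k3
    · rw [k2, k1] at k3
      exact ha1 (by simpa using k3)
    · rw [k2, k1, ← mul_assoc] at k3
      exact hda (by simpa using k3)
  · exfalso
    rcases k3 with k3 | k3
    · rw [k2, k1] at k3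
      exact hba (mul_right_cancel k3)
    · rw [k2, k1, ← mul_assoc] at k3
      exact hbda (mul_right_cancel k3)

theorem n_two (h : OddN T V z n) (hn : n = 2) (h8 : Nat.card (ws V z) ≠ 8) (s : St V z n p q r v f R F g y0)
    (e : Et R g η) : False := by
  haveI := s.finite_X
  haveI := s.finite_M
  have hy0 : y0 ≠ 0 := fun h1 => h8 (s.card_eight h h1)
  have hee := ee h s e hy0
  obtain ⟨h4, -⟩ := four_two h s e
  have hcx := col_x s e
  have hpx := pi_x s e
  have hxj := x_fj s e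
  have two := s.two h
  have tv := s.tv
  have hp := s.pt
  have hpη := e.conj_p
  have hηp := e.mem
  have hpp : p * p = 1 := Pt.sq h.toGeoC hp
  have hr := s.pt_r h
  have hn1 : n - 1 = 1 := by omega
  set x := η * r * η⁻¹ with hx
  have hxp : Pt z x := hcx.pt h.toGeoC
  have hxm : x ∈ ws V p := hcx.mem_ws
  have hqr : q ∈ ws V r := by
    have h1 := s.hw
    rw [hn1] at h1
    rcases walk_one.mp h1 with h2 | h2
    · rw [← h2]; exact self_mem_ws h.toGeoC hr
    · exact h2.mem_ws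
  -- `(r, x)` is critical
  have hcr : Crit V z n r x := by
    have hw : Walk V n r x := by
      rw [hn]; exact s.hr.symm.walk.trans hcx.walk
    refine ⟨hr, hw, ?_⟩
    by_contra hcon
    push Not at hcon
    apply hee
    have h6 : ws V x ⊓ centralizer ({q} : Set G) = ws V x := inf_eq_left.mpr fun w hw =>
      mem_centralizer_singleton_iff.mpr (hcon q hqr w hw).symm
    rw [h6] at h4
    exact h4
  set x' := η * x * η⁻¹ with hx'
  have hcx' : Col V p x' := by
    have h1 := hcx.conj η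
    rwa [hpη] at h1
  have hx'm : x' ∈ ws V p := hcx'.mem_ws
  have hpx' : R.pi x' = R.pi v + g • R.pi v + y0 := by
    rw [← R.smul_pi η hηp x hxm, e.rho, hpx, smul_add, tv.gy, tv.ggc two]
  have hpr : R.pi r = R.pi v + y0 := tv.add
  have hηx' : η * x' * η⁻¹ = r := by
    have h1 : (η * η * η) * r = r * (η * η * η) := by
      have h2 : η * η * η ∈ centralizer ({p} : Set G) := mul_mem (mul_mem hηp hηp) hηp
      refine comm_of_smul h.toOdd hp R h2 ?_ s.r_mem ?_
      · have h3 : η * η * η = η ^ 3 := by rw [pow_succ, pow_succ, pow_one]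
        rw [h3]
        exact e.odd.of_dvd_nat (orderOf_pow_dvd 3)
      · rw [R.rho_mul _ (mul_mem hηp hηp) η hηp, R.rho_mul η hηp η hηp, e.rho, tv.ggg, one_smul]
    calc η * x' * η⁻¹ = (η * η * η) * r * (η * η * η)⁻¹ := by rw [hx', hx]; group
      _ = r := by rw [h1, mul_inv_cancel_right]
  have hc0 : R.pi v ≠ 0 := tv.c0
  have hgc0 := tv.gc_ne_zero
  have hcgc : R.pi v ≠ g • R.pi v := fun h1 => tv.gc_ne two h1.symm
  -- criticality
  have hr0 : R.pi r ≠ 0 := Rep.pi_line_ne_zero h.toOdd hp R s.hr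
  have hx0 : R.pi x ≠ 0 := Rep.pi_line_ne_zero h.toOdd hp R hcx
  have hrx : R.pi r ≠ R.pi x := by
    rw [hpr, hpx]
    exact fun h1 => hcgc (add_right_cancel h1)
  obtain ⟨k, hkp, hkx, hkr⟩ := sign1 h s s.r_fj hxj hr0 hrx
  obtain ⟨k', hkp', hkr', hkx'⟩ := sign1 h s hxj s.r_fj hx0 (Ne.symm hrx)
  have hinv : ∀ {k a : G}, k * a = a * k → k * a * k⁻¹ = a := fun {k a} h1 => by
    rw [h1, mul_inv_cancel_right]
  have c01 : ∀ a b : G, (a = r ∨ a = p * r) → (b = x ∨ b = p * x) → Crit V z n a b := by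
    have h1 : ∀ a : G, (a = r ∨ a = p * r) → Crit V z n a x := by
      rintro a (rfl | rfl)
      · exact hcr
      · have h1 := hcr.conj k
        rwa [hkr, hinv hkx] at h1
    rintro a b ha (rfl | rfl)
    · exact h1 a ha
    · have h2 := (h1 a ha).conj k'
      have h3 : k' * a * k'⁻¹ = a := by
        rcases ha with rfl | rfl
        · exact hinv hkr'
        · calc k' * (p * r) * k'⁻¹ = (k' * p * k'⁻¹) * (k' * r * k'⁻¹) := by group
            _ = p * r := by rw [hinv hkp', hinv hkr']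
      rwa [hkx', h3] at h2
  have hconj : ∀ a b : G, (b = η * a * η⁻¹ ∨ b = p * (η * a * η⁻¹)) → ∃ a', (a' = a ∨ a' = p * a) ∧ b = η * a' * η⁻¹ := by
    rintro a b (h1 | h1)
    · exact ⟨a, Or.inl rfl, h1⟩
    · refine ⟨p * a, Or.inr rfl, ?_⟩
      rw [h1]
      calc p * (η * a * η⁻¹) = (η * p * η⁻¹) * (η * a * η⁻¹) := by rw [hpη]
        _ = η * (p * a) * η⁻¹ := by group
  have c12 : ∀ a b : G, (a = x ∨ a = p * x) → (b = x' ∨ b = p * x') → Crit V z n a b := by
    intro a b ha hb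
    obtain ⟨a', ha', rfl⟩ := hconj r a ha
    obtain ⟨b', hb', rfl⟩ := hconj x b hb
    exact (c01 a' b' ha' hb').conj η
  have c20 : ∀ a b : G, (a = x' ∨ a = p * x') → (b = r ∨ b = p * r) → Crit V z n a b := by
    intro a b ha hb
    obtain ⟨a', ha', rfl⟩ := hconj x a ha
    obtain ⟨b', hb', rfl⟩ := hconj x' b (by rw [hηx']; exact hb)
    exact (c12 a' b' ha' hb').conj η
  have c02 : ∀ a b : G, (a = r ∨ a = p * r) → (b = x' ∨ b = p * x') → Crit V z n a b := fun a b ha hb =>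
    (c20 b a hb ha).symm h.toOdd
  -- the triangles
  have hcol : ∀ {a b : G}, Col V p a → (b = a ∨ b = p * a) → Col V p b := by
    rintro a b ha (rfl | rfl)
    · exact ha
    · exact (col_mul h.toOdd ha).1
  have hpi : ∀ {a b : G}, Col V p a → (b = a ∨ b = p * a) → R.pi b = R.pi a := fun {a b} ha hb =>
    (Rep.pi_eq_pi h.toOdd hp R (hcol ha hb).mem_ws ha.mem_ws).mpr hb
  have tr : ∀ {a b d v1 v2 v3 : G}, (a = r ∨ a = p * r) → (b = x ∨ b = p * x) → (d = x' ∨ d = p * x') →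
      GP V a b v1 → GP V a d v2 → GP V b d v3 → v1 = v2 ∧ v1 = v3 := by
    intro a b d v1 v2 v3 ha hb hd g1 g2 g3
    exact tri h hn R hp hy0 ((hpi s.hr ha).trans hpr) ((hpi hcx hb).trans hpx) ((hpi hcx' hd).trans hpx')
      (hcol s.hr ha) (hcol hcx hb) (hcol hcx' hd) (c01 a b ha hb) (c02 a d ha hd) (c12 b d hb hd) g1 g2 g3 hc0 hgc0
      hcgc
  have hgp : ∀ {a b : G}, Crit V z n a b → ∃ v, GP V a b v := fun hc => all_gp h (by omega) hc
  obtain ⟨w, gw⟩ := hgp hcr
  obtain ⟨w0, gw0⟩ := hgp (c12 x x' (Or.inl rfl) (Or.inl rfl))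
  obtain ⟨w1, gw1⟩ := hgp (c02 r x' (Or.inl rfl) (Or.inl rfl))
  have hw0 : w = w0 := (tr (Or.inl rfl) (Or.inl rfl) (Or.inl rfl) gw gw1 gw0).2
  have claim : ∀ {a b v' : G}, (a = r ∨ a = p * r) → ((b = x ∨ b = p * x) ∨ (b = x' ∨ b = p * x')) →
      GP V a b v' → v' = w := by
    intro a b v' ha hb gv
    obtain ⟨u1, gu1⟩ := hgp (c01 a x ha (Or.inl rfl))
    obtain ⟨u2, gu2⟩ := hgp (c02 a x' ha (Or.inl rfl))
    obtain ⟨k1, k2⟩ := tr ha (Or.inl rfl) (Or.inl rfl) gu1 gu2 gw0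
    rcases hb with hb | hb
    · obtain ⟨u3, gu3⟩ := hgp (c12 b x' hb (Or.inl rfl))
      have k3 := (tr ha hb (Or.inl rfl) gv gu2 gu3).1
      rw [k3, ← k1, k2, hw0]
    · obtain ⟨u3, gu3⟩ := hgp (c12 x b (Or.inl rfl) hb)
      have k3 := (tr ha (Or.inl rfl) hb gu1 gv gu3).1
      rw [← k3, k2, hw0]
  -- `T'` centralizes `w`
  obtain ⟨T', L, h', hrL, hL, hT⟩ := s.exists_T h
  have hwT : ∀ t ∈ T', t * w = w * t := by
    intro t ht
    obtain ⟨htp, htr⟩ := hT t ht
    have htl := s.smul_r h htp htr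
    have hgt := GP.conj gw t
    obtain ⟨t1, t2⟩ := tv.smul_c s.amb htl
    have htx : (t * x * t⁻¹ = x ∨ t * x * t⁻¹ = p * x) ∨ (t * x * t⁻¹ = x' ∨ t * x * t⁻¹ = p * x') := by
      have h1 := R.smul_pi t htp x hxm
      rw [hpx, smul_add, t2] at h1
      rcases tv.smul_gc s.amb htl with e1 | e1
      · left
        rw [e1, ← hpx] at h1
        exact (Rep.pi_eq_pi h.toOdd hp R (R.conj_mem htp hxm) hxm).mp h1.symm
      · right
        rw [e1, tv.ggc two, ← hpx'] at h1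
        exact (Rep.pi_eq_pi h.toOdd hp R (R.conj_mem htp hxm) hx'm).mp h1.symm
    exact mul_inv_eq_iff_eq_mul.mp (claim htr htx hgt)
  have hwm : w ∈ T' := by
    apply h'.o2_le_T
    exact tt_le_o2 h (j := 1) (by omega) hp (ws_le_tt s.hr.walk gw.memp)
  rcases h'.soc w hwm (ws_sq h.toOdd hr gw.memp) hwT with e1 | e1
  · exact gw.ne e1
  · rw [e1] at gw
    obtain ⟨f', hf', hfn'⟩ := exists_not_mem (hcr.symm h.toOdd)
    obtain ⟨M', X', _, _, _, ⟨R'⟩⟩ := exists_rep h.toOdd hr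
    haveI : Finite M' := R'.finite_left
    haveI : Finite X' := R'.finite_right
    obtain ⟨F', ft'⟩ := exists_ft h.toOdd hr R'
    obtain ⟨g', y0', s'⟩ := exists_st h hcr s.hr.symm (by rw [hn1]; exact hcx.walk) gw hf' hfn' R' ft'
    have h9 : y0' = 0 := by
      have h10 := s'.tv.add
      simpa using h10
    exact h8 (s'.card_eight h h9)

/-- **`n ≤ 1`** -/
theorem le_one (h : OddN T V z n) : n ≤ 1 := by
  by_contra hcon
  have hn : 2 ≤ n := by omega
  by_cases h8 : Nat.card (ws V z) = 8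
  · exact EO.TwoEight.not_two h hn h8
  · obtain ⟨p, q, hc⟩ := h.crit
    have hc : Crit V z n p q := hc
    obtain ⟨r, hr, hw⟩ := hc.head h
    obtain ⟨v, gp⟩ := all_gp h hn hc
    obtain ⟨f, hf, hfn⟩ := exists_not_mem (hc.symm h.toOdd)
    obtain ⟨M, X, _, _, _, ⟨R⟩⟩ := exists_rep h.toOdd hc.pt
    haveI : Finite M := R.finite_left
    haveI : Finite X := R.finite_right
    obtain ⟨F, ft⟩ := exists_ft h.toOdd hc.pt R
    obtain ⟨g, y0, s⟩ := exists_st h hc hr hw gp hf hfn R ft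
    obtain ⟨η, hη, hηg, hηo⟩ := s.exists_eta
    have e : Et R g η := ⟨hη, hηg, hηo⟩
    rcases Nat.lt_or_ge n 3 with h3 | h3
    · exact n_two h (by omega) h8 s e
    · exact h8 (s.card_eight h (n_three h h3 s e))

end Cfsg.Agent.OddCyclic.EOJ.Main
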