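import Cfsg.Agent.OddCyclic.EO.FitC

/-!
# Quadratic elementary abelian groups: module facts

* `inv_of_move`, `eq_one_of_fix`: (R0);
* `quad_sub`: `[M, u] ⊆ [M, a]`;
* `Tv`: the structure at an involution `a` with `|M : C_M(a)| = 2`.
-/

set_option autoImplicit false
set_option linter.unusedSectionVars false
set_option linter.style.haveILetI false

namespace Cfsg.Agent.OddCyclic.EOJ.Alg

open Subgroup Cfsg.Agent.OddCyclic.EO.Fit Cfsg.Agent.OddCyclic.EO.FitB Cfsg.Agent.OddCyclic.EO.FitC

universe u v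

variable {X : Type u} {M : Type v} [Group X] [AddCommGroup M] [DistribMulAction X M] [Finite X] [Finite M]
  {F A : Subgroup X} {l : M}

theorem odd_zp (h : Amb M F A) {g : X} (hg : g ∈ F) : Odd (Nat.card (zpowers g)) :=
  Odd.of_dvd_nat h.odd (card_dvd_of_le (zpowers_le.mpr hg))

theorem sub_mem_ker (h : Amb M F A) {g : X} (hg : g ∈ F) (m : M) :
    m - av (zpowers g) m ∈ (av (zpowers g) : M →+ M).ker := by
  change av (zpowers g) (m - av (zpowers g) m) = 0
  rw [map_sub, av_fixed (odd_zp h hg) h.two (m := av (zpowers g) m) fun p hp => smul_av hp _, sub_self]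

theorem av_comm (h : Amb M F A) {g : X} (hg : g ∈ F) (c : X) (m : M) :
    c • av (zpowers g) m = av (zpowers g) (c • m) := by
  haveI := normal_of_le h.cyc h.norm (zpowers_le.mpr hg)
  exact smul_av_comm c m

/-- if `u` inverts `g` and `g` moves `[b0, a]` then `a` inverts `g` -/
theorem inv_of_move (h : Amb M F A) (hg : Good F A (⊤ : AddSubgroup M) l)
    (hq : ∀ a ∈ A, ∀ b ∈ A, ∀ m : M, a • (b • m - m) = b • m - m) {a u g : X} (ha : a ∈ A) (hu : u ∈ A)
    (hgF : g ∈ F) {r j : ℕ} (hr : r.Prime) (hr2 : r ≠ 2) (hgo : orderOf g = r ^ j) (hug : u * g * u⁻¹ = g⁻¹) {b0 : M}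
    (hm : g • (a • b0 - b0) ≠ a • b0 - b0) : a * g * a⁻¹ = g⁻¹ := by
  rcases pm h.cyc h.norm (h.sq a ha) hgF hr hr2 hgo with e | e
  · exfalso
    apply hm
    have h1 := quad_triv h hg hu hgF hug e (hq a ha u hu) _ (sub_mem_ker h hgF b0)
    have h2 : a • b0 - b0 = a • av (zpowers g) b0 - av (zpowers g) b0 := by
      rw [smul_sub] at h1
      have h3 : a • b0 - b0 - (a • av (zpowers g) b0 - av (zpowers g) b0) = 0 := by
        calc a • b0 - b0 - (a • av (zpowers g) b0 - av (zpowers g) b0)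
            = (a • b0 - a • av (zpowers g) b0) - (b0 - av (zpowers g) b0) := by abel
          _ = 0 := by rw [h1, sub_self]
      exact sub_eq_zero.mp h3
    have h4 : g • av (zpowers g) b0 = av (zpowers g) b0 := smul_av (mem_zpowers g) b0
    rw [h2, smul_sub, smul_smul, ← e, mul_smul, h4]
  · exact e

/-- (R0) -/
theorem eq_one_of_fix (h : Amb M F A) (hg : Good F A (⊤ : AddSubgroup M) l)
    (hf : ∀ x : X, (∀ m : M, x • m = m) → x = 1)
    (hq : ∀ a ∈ A, ∀ b ∈ A, ∀ m : M, a • (b • m - m) = b • m - m) {a u : X} (ha : a ∈ A) (hu : u ∈ A) {e : M}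
    (hcp : ∀ g ∈ F, ∀ r j : ℕ, r.Prime → orderOf g = r ^ j → g ≠ 1 → u * g * u⁻¹ = g⁻¹ →
      g • (a • e - e) ≠ a • e - e) (hue : u • e = e) : u = 1 := by
  by_contra hu1
  obtain ⟨m, hm⟩ : ∃ m : M, u • m ≠ m := by
    by_contra hcon
    push Not at hcon
    exact hu1 (hf u hcon)
  obtain ⟨g, hgF, r, k, hr, hgo, hug, v, -, hgv⟩ := exists_pp h hg hu (AddSubgroup.mem_top m) hm
  have hg1 : g ≠ 1 := by rintro rfl; rw [one_smul] at hgv; exact hgv rfl
  have hr2 := prime_ne_two (odd_of_mem h.odd hgF) hgo hg1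
  have hmove := hcp g hgF r k hr hgo hg1 hug
  have hag := inv_of_move h hg hq ha hu hgF hr hr2 hgo hug hmove
  apply hmove
  have hac : (a * u) * g = g * (a * u) := by
    have e3 : a * u * g * (a * u)⁻¹ = g := by
      calc a * u * g * (a * u)⁻¹ = a * (u * g * u⁻¹) * a⁻¹ := by group
        _ = (a * g * a⁻¹)⁻¹ := by rw [hug]; group
        _ = g := by rw [hag, inv_inv]
    exact mul_inv_eq_iff_eq_mul.mp e3
  have hqau : ∀ m : M, (a * u) • (u • m - m) = u • m - m := by
    intro m
    rw [mul_smul, hq u hu u hu, hq a ha u hu]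
  have h1 := quad_triv h hg hu hgF hug hac hqau _ (sub_mem_ker h hgF e)
  have h2 : u • (e - av (zpowers g) e) = e - av (zpowers g) e := by
    rw [smul_sub, av_comm h hgF, hue]
  rw [mul_smul, h2] at h1
  have h3 : a • e - e = a • av (zpowers g) e - av (zpowers g) e := by
    rw [smul_sub] at h1
    have h4 : a • e - e - (a • av (zpowers g) e - av (zpowers g) e) = 0 := by
      calc a • e - e - (a • av (zpowers g) e - av (zpowers g) e)
          = (a • e - a • av (zpowers g) e) - (e - av (zpowers g) e) := by abel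
        _ = 0 := by rw [h1, sub_self]
    exact sub_eq_zero.mp h4
  have h4 : g • av (zpowers g) e = av (zpowers g) e := smul_av (mem_zpowers g) e
  have h5 : g⁻¹ • av (zpowers g) e = av (zpowers g) e := smul_av (inv_mem (mem_zpowers g)) e
  have h6 : g * a = a * g⁻¹ := by
    have h7 : a * g⁻¹ * a⁻¹ = g := by
      calc a * g⁻¹ * a⁻¹ = (a * g * a⁻¹)⁻¹ := by group
        _ = g := by rw [hag, inv_inv]
    calc g * a = (a * g⁻¹ * a⁻¹) * a := by rw [h7]
      _ = a * g⁻¹ := by group
  rw [h3, smul_sub, smul_smul, h6, mul_smul, h5, h4]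

/-- `[M, u] ⊆ [M, a]` -/
theorem quad_sub (h : Amb M F A) (hg : Good F A (⊤ : AddSubgroup M) l)
    (hq : ∀ a ∈ A, ∀ b ∈ A, ∀ m : M, a • (b • m - m) = b • m - m) {a : X} (ha : a ∈ A)
    (hall : ∀ u ∈ A, ∀ g ∈ F, ∀ r j : ℕ, r.Prime → orderOf g = r ^ j → g ≠ 1 → u * g * u⁻¹ = g⁻¹ →
      a * g * a⁻¹ = g⁻¹) {u : X} (hu : u ∈ A) (m : M) : ∃ m' : M, u • m - m = a • m' - m' := by
  set hF : ∀ x ∈ F, ∀ y ∈ F, x * y = y * x := fun _ hx _ hy => comm_of_cyclic h.cyc hx hy with hFd
  set P := iv F hF a with hPd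
  have hP : P ≤ F := fun f hf => hf.1
  set P1 := P ⊓ centralizer ({u} : Set X) with hP1d
  set P2 := P ⊓ iv F hF u with hP2d
  have hP1 : P1 ≤ F := inf_le_left.trans hP
  have hP2 : P2 ≤ F := inf_le_left.trans hP
  haveI := normal_of_le h.cyc h.norm hP
  haveI := normal_of_le h.cyc h.norm hP1
  haveI := normal_of_le h.cyc h.norm hP2
  have hP1o : Odd (Nat.card P1) := Odd.of_dvd_nat h.odd (card_dvd_of_le hP1)
  have hP2o : Odd (Nat.card P2) := Odd.of_dvd_nat h.odd (card_dvd_of_le hP2)
  obtain ⟨g1, hg1, hPg1⟩ := exists_gen h.cyc hP1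
  obtain ⟨g2, hg2, hPg2⟩ := exists_gen h.cyc hP2
  have hg1P : g1 ∈ P1 := by rw [hPg1]; exact mem_zpowers g1
  have hg2P : g2 ∈ P2 := by rw [hPg2]; exact mem_zpowers g2
  have ht1 : ∀ m ∈ (av P1 : M →+ M).ker, u • m = m := by
    rw [hPg1]
    exact quad_triv h hg ha hg1 hg1P.1.2 (mem_centralizer_singleton_iff.mp hg1P.2).symm (hq u hu a ha)
  have hac : ∀ m : M, (a * u) • (a • m - m) = a • m - m := by
    intro m
    rw [mul_smul, hq u hu a ha, hq a ha a ha]
  have ht2 : ∀ m ∈ (av P2 : M →+ M).ker, (a * u) • m = m := by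
    rw [hPg2]
    refine quad_triv h hg ha hg2 hg2P.1.2 ?_ hac
    have e1 : a * g2 * a⁻¹ = g2⁻¹ := hg2P.1.2
    have e2 : u * g2 * u⁻¹ = g2⁻¹ := hg2P.2.2
    have e3 : a * u * g2 * (a * u)⁻¹ = g2 := by
      calc a * u * g2 * (a * u)⁻¹ = a * (u * g2 * u⁻¹) * a⁻¹ := by group
        _ = (a * g2 * a⁻¹)⁻¹ := by rw [e2]; group
        _ = g2 := by rw [e1, inv_inv]
    exact mul_inv_eq_iff_eq_mul.mp e3
  -- `iv F u ≤ P`
  have hivP : iv F hF u ≤ P := by
    intro p hp
    refine mem_of_pp _ p rfl fun g hgp r k hr ho => ?_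
    have hg2 : g ∈ iv F hF u := (zpowers_le.mpr hp) hgp
    by_cases hg1 : g = 1
    · rw [hg1]; exact one_mem _
    · exact ⟨hg2.1, hall u hu g hg2.1 r k hr ho hg1 hg2.2⟩
  set n0 := av P1 m with hn0
  set n1 := av P2 n0 with hn1
  have e1 : u • (m - n0) = m - n0 := by
    refine ht1 _ ?_
    change av P1 (m - av P1 m) = 0
    rw [map_sub, av_fixed hP1o h.two (m := av P1 m) fun p hp => smul_av hp _, sub_self]
  have e2 : (a * u) • (n0 - n1) = n0 - n1 := by
    refine ht2 _ ?_
    change av P2 (n0 - av P2 n0) = 0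
    rw [map_sub, av_fixed hP2o h.two (m := av P2 n0) fun p hp => smul_av hp _, sub_self]
  have haa : a * a = 1 := h.sq a ha
  have e3 : u • (n0 - n1) = a • (n0 - n1) := by
    rw [mul_smul] at e2
    calc u • (n0 - n1) = (a * a) • u • (n0 - n1) := by rw [haa, one_smul]
      _ = a • (n0 - n1) := by rw [mul_smul, e2]
  have e4 : u • n1 = n1 := by
    refine triv_fx h hg hu n1 ⟨AddSubgroup.mem_top _, fun p hp => ?_⟩
    -- `p ∈ iv F u`; `p ∈ P2`
    exact smul_av (mem_inf.mpr ⟨hivP hp, hp⟩) n0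
  refine ⟨n0 - n1, ?_⟩
  have h6 : u • m = u • (m - n0) + u • (n0 - n1) + u • n1 := by
    rw [← smul_add, ← smul_add]; congr 1; abel
  rw [h6, e1, e3, e4]
  abel

/-! ### transvections -/

/-- the structure at an involution `a` fixing `l` with `|M : C_M(a)| = 2` -/
structure Tv (F : Subgroup X) (a g : X) (l c y : M) : Prop where
  gF : g ∈ F
  g3 : orderOf g = 3
  inv : a * g * a⁻¹ = g⁻¹
  add : l = c + y
  c0 : c ≠ 0
  gy : g • y = y
  sum : c + g • c + g • g • c = 0
  ac : a • c = c
  fixa : ∀ m : M, g • m = m → a • m = m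
  dec : ∀ m : M, ∃ m0 : M, g • m0 = m0 ∧ (m = m0 ∨ m = m0 + c ∨ m = m0 + g • c ∨ m = m0 + g • g • c)

theorem exists_tv (h : Amb M F A) (hg : Good F A (⊤ : AddSubgroup M) l)
    (hf : ∀ x : X, (∀ m : M, x • m = m) → x = 1) {a : X} (ha : a ∈ A) (ha1 : a ≠ 1) (hl : l ≠ 0)
    (hN : Nat.card M ≤ Nat.card (fx (zpowers a) (⊤ : AddSubgroup M)) * 2) :
    ∃ g c y, Tv F a g l c y := by
  obtain ⟨g, hgF, hag, hgo, hk4, htr⟩ : ∃ g ∈ F, a * g * a⁻¹ = g⁻¹ ∧ orderOf g = 3 ∧
      Nat.card (av (zpowers g) : M →+ M).ker = 4 ∧ ∀ m ∈ fx (zpowers g) (⊤ : AddSubgroup M), a • m = m := by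
    rcases tri h hg hf ha ha1 hN (fun n hn => Or.inl (hn.2 a (mem_zpowers a))) with e | ⟨-, -, -, n, hn, e⟩
    · exact e
    · exfalso
      rw [hn.2 a (mem_zpowers a)] at e
      exact hl (left_eq_add.mp e)
  set K := (av (zpowers g) : M →+ M).ker with hK
  have hfpf : ∀ n ∈ K, g • n = n → n = 0 := fun n hn hgn => fpf (N := ⊤) h hgF ⟨AddSubgroup.mem_top _, hn⟩ hgn
  have hKi : ∀ c : X, ∀ n ∈ K, c • n ∈ K := by
    intro c n hn
    change av (zpowers g) (c • n) = 0
    have h1 : av (zpowers g) n = 0 := hn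
    rw [← av_comm h hgF, h1, smul_zero]
  have hg3 : g * g * g = 1 := by
    have := pow_orderOf_eq_one g
    rw [hgo] at this
    rw [← this, pow_succ, pow_succ, pow_one]
  have hg3' : ∀ m : M, g • g • g • m = m := by
    intro m
    rw [smul_smul, smul_smul, hg3, one_smul]
  have hg1 : g ≠ 1 := by rintro rfl; rw [orderOf_one] at hgo; omega
  set y := av (zpowers g) l with hy
  set c := l - y with hc
  have hcK : c ∈ K := sub_mem_ker h hgF l
  have hgy : g • y = y := smul_av (mem_zpowers g) l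
  have hc0 : c ≠ 0 := by
    intro e
    apply hg1
    refine stab h hg hf hgF ?_
    have : l = y := sub_eq_zero.mp e
    rw [this]; exact hgy
  have hac : a • c = c := by
    rw [hc, smul_sub, hy, av_comm h hgF, hg.fix a ha]
  have hsum : c + g • c + g • g • c = 0 := by
    refine hfpf _ (K.add_mem (K.add_mem hcK (hKi g c hcK)) (hKi g _ (hKi g c hcK))) ?_
    rw [smul_add, smul_add, hg3']
    abel
  have hgc : g • c ≠ c := fun e => hc0 (hfpf c hcK e)
  have hgc0 : g • c ≠ 0 := fun e => hc0 (smul_left_cancel g (by rw [e, smul_zero]))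
  have hggc0 : g • g • c ≠ 0 := fun e => hgc0 (smul_left_cancel g (by rw [e, smul_zero]))
  have hggc : g • g • c ≠ g • c := fun e => hgc (smul_left_cancel g e)
  have hggc' : g • g • c ≠ c := by
    intro e
    have h1 := hg3' c
    rw [e] at h1
    exact hgc h1
  have hmem : ∀ b ∈ K, b = 0 ∨ b = c ∨ b = g • c ∨ b = g • g • c := by
    classical
    have h4 : Set.ncard ({0, c, g • c, g • g • c} : Set M) = 4 := by
      rw [Set.ncard_insert_of_notMem, Set.ncard_insert_of_notMem, Set.ncard_insert_of_notMem,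
        Set.ncard_singleton]
      · simpa using Ne.symm hggc
      · simp only [Set.mem_insert_iff, Set.mem_singleton_iff, not_or]
        exact ⟨Ne.symm hgc, Ne.symm hggc'⟩
      · simp only [Set.mem_insert_iff, Set.mem_singleton_iff, not_or]
        exact ⟨Ne.symm hc0, Ne.symm hgc0, Ne.symm hggc0⟩
    have hsub : ({0, c, g • c, g • g • c} : Set M) ⊆ (K : Set M) := by
      rintro x (rfl | rfl | rfl | rfl)
      · exact K.zero_mem
      · exact hcK
      · exact hKi g c hcK
      · exact hKi g _ (hKi g c hcK)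
    have h5 : ({0, c, g • c, g • g • c} : Set M) = (K : Set M) := by
      refine Set.eq_of_subset_of_ncard_le hsub ?_ (Set.toFinite _)
      rw [h4]
      exact hk4.le
    intro b hb
    have : b ∈ ({0, c, g • c, g • g • c} : Set M) := by rw [h5]; exact hb
    simpa using this
  refine ⟨g, c, y, hgF, hgo, hag, by rw [hc]; abel, hc0, hgy, hsum, hac, fun m hm => htr m ?_, fun m => ?_⟩
  · exact fx_zpowers (AddSubgroup.mem_top m) hm
  · refine ⟨av (zpowers g) m, smul_av (mem_zpowers g) m, ?_⟩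
    have h1 : m = av (zpowers g) m + (m - av (zpowers g) m) := by abel
    rcases hmem _ (sub_mem_ker h hgF m) with e | e | e | e
    · left; rw [e, add_zero] at h1; exact h1
    · right; left; rw [e] at h1; exact h1
    · right; right; left; rw [e] at h1; exact h1
    · right; right; right; rw [e] at h1; exact h1

namespace Tv

variable {a g : X} {c y : M}

theorem ggg (t : Tv F a g l c y) : g * g * g = 1 := by
  have := pow_orderOf_eq_one g
  rw [t.g3] at this
  rw [← this, pow_succ, pow_succ, pow_one]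

theorem ggg' (t : Tv F a g l c y) (m : M) : g • g • g • m = m := by
  rw [smul_smul, smul_smul, t.ggg, one_smul]

theorem ggc (t : Tv F a g l c y) (two : ∀ m : M, m + m = 0) : g • g • c = c + g • c := by
  have h1 := t.sum
  have h2 := two (c + g • c)
  rw [← h2] at h1
  exact add_left_cancel h1

theorem eq_zero (two : ∀ m : M, m + m = 0) {d : M} (h1 : g • d = d) (h2 : d + g • d + g • g • d = 0) : d = 0 := by
  rw [h1, h1, two, zero_add] at h2
  exact h2

theorem gc_ne (t : Tv F a g l c y) (two : ∀ m : M, m + m = 0) : g • c ≠ c := fun e => t.c0 (eq_zero two e t.sum)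

theorem gc_ne_zero (t : Tv F a g l c y) : g • c ≠ 0 := fun e => t.c0 (smul_left_cancel g (by rw [e, smul_zero]))

theorem agc (t : Tv F a g l c y) (two : ∀ m : M, m + m = 0) : a • g • c = g • c + c := by
  have h1 : a * g = g⁻¹ * a := by
    calc a * g = (a * g * a⁻¹) * a := by group
      _ = g⁻¹ * a := by rw [t.inv]
  have h2 : g⁻¹ = g * g := by
    rw [inv_eq_iff_mul_eq_one, ← mul_assoc]; exact t.ggg
  rw [smul_smul, h1, mul_smul, t.ac, h2, mul_smul, t.ggc two, add_comm]

/-- `a` is a transvection with centre `c` -/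
theorem trans (t : Tv F a g l c y) (two : ∀ m : M, m + m = 0) (m : M) : a • m = m ∨ a • m = m + c := by
  obtain ⟨m0, h0, e | e | e | e⟩ := t.dec m
  · left; rw [e]; exact t.fixa m0 h0
  · left; rw [e, smul_add, t.fixa m0 h0, t.ac]
  · right; rw [e, smul_add, t.fixa m0 h0, t.agc two, add_assoc]
  · right
    rw [e, smul_add, t.fixa m0 h0, t.ggc two, smul_add, t.ac, t.agc two]
    abel

theorem fixl (t : Tv F a g l c y) : a • l = l := by
  rw [t.add, smul_add, t.ac, t.fixa y t.gy]

/-- elements of `X` respect the decomposition -/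
theorem conj_g (h : Amb M F A) (t : Tv F a g l c y) (s : X) : s * g * s⁻¹ = g ∨ s * g * s⁻¹ = g * g := by
  classical
  haveI := normal_of_le h.cyc h.norm (zpowers_le.mpr t.gF)
  have h1 : s * g * s⁻¹ ∈ zpowers g := this.conj_mem g (mem_zpowers g) s
  have h2 : orderOf (s * g * s⁻¹) = 3 := by
    have := orderOf_injective (MulAut.conj s).toMonoidHom (MulAut.conj s).injective g
    rw [← t.g3]; exact this
  rw [mem_zpowers_iff_mem_range_orderOf] at h1
  rw [t.g3] at h1
  simp only [Finset.mem_image, Finset.mem_range] at h1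
  obtain ⟨i, hi, e⟩ := h1
  interval_cases i
  · exfalso
    rw [← e, pow_zero, orderOf_one] at h2
    omega
  · left; rw [← e, pow_one]
  · right; rw [← e, pow_two]

theorem smul_fix (h : Amb M F A) (t : Tv F a g l c y) (s : X) {m : M} (hm : g • m = m) : g • s • m = s • m := by
  have h1 := conj_g h t s⁻¹
  rw [inv_inv] at h1
  have h2 : (s⁻¹ * g * s) • m = m := by
    rcases h1 with e | e
    · rw [e, hm]
    · rw [e, mul_smul, hm, hm]
  calc g • s • m = s • (s⁻¹ * g * s) • m := by rw [smul_smul, smul_smul]; congr 1; group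
    _ = s • m := by rw [h2]

theorem smul_sum (h : Amb M F A) (t : Tv F a g l c y) (s : X) {m : M} (hm : m + g • m + g • g • m = 0) :
    s • m + g • s • m + g • g • s • m = 0 := by
  have h1 := conj_g h t s⁻¹
  rw [inv_inv] at h1
  have h3 : ∀ m : M, g • s • m = s • (s⁻¹ * g * s) • m := by
    intro m
    rw [smul_smul, smul_smul]; congr 1; group
  have h2 : m + (s⁻¹ * g * s) • m + (s⁻¹ * g * s) • (s⁻¹ * g * s) • m = 0 := by
    rcases h1 with e | e
    · rw [e]; exact hm
    · rw [e, mul_smul, mul_smul, t.ggg']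
      rw [← hm]; abel
  have h4 := congrArg (s • ·) h2
  simp only [smul_add, smul_zero] at h4
  rw [h3 m, h3, h4]

theorem smul_c (h : Amb M F A) (t : Tv F a g l c y) {s : X} (hs : s • l = l) : s • c = c ∧ s • y = y := by
  have h1 := smul_fix h t s t.gy
  have h2 := smul_sum h t s t.sum
  have h3 : s • c - c = y - s • y := by
    have h4 := hs
    rw [t.add, smul_add] at h4
    rw [sub_eq_sub_iff_add_eq_add, h4, add_comm]
  have h5 : s • c - c = 0 := by
    refine eq_zero (g := g) h.two ?_ ?_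
    · rw [h3, smul_sub, t.gy, h1]
    · rw [smul_sub, smul_sub]
      calc s • c - c + (g • s • c - g • c) + (g • g • s • c - g • g • c)
          = (s • c + g • s • c + g • g • s • c) - (c + g • c + g • g • c) := by abel
        _ = 0 := by rw [h2, t.sum, sub_zero]
  refine ⟨sub_eq_zero.mp h5, ?_⟩
  rw [h5] at h3
  exact (sub_eq_zero.mp h3.symm).symm

theorem smul_gc (h : Amb M F A) (t : Tv F a g l c y) {s : X} (hs : s • l = l) :
    s • g • c = g • c ∨ s • g • c = g • g • c := by
  have h1 : s • g • c = (s * g * s⁻¹) • s • c := by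
    rw [smul_smul, smul_smul]; congr 1; group
  rw [h1, (smul_c h t hs).1]
  rcases conj_g h t s with e | e
  · left; rw [e]
  · right; rw [e, mul_smul]

/-- the centre is determined by `l` -/
theorem uniq (h : Amb M F A) (t : Tv F a g l c y) {a' g' : X} {c' y' : M} (t' : Tv F a' g' l c' y') : c = c' ∧ y = y' := by
  have hgg : g' = g ∨ g' = g * g := by
    classical
    have h1 : g' ∈ zpowers g := mem_zpowers_of_dvd h.cyc t'.gF t.gF (by rw [t.g3, t'.g3])
    rw [mem_zpowers_iff_mem_range_orderOf, t.g3] at h1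
    simp only [Finset.mem_image, Finset.mem_range] at h1
    obtain ⟨i, hi, e⟩ := h1
    interval_cases i
    · exfalso
      have h2 := t'.g3
      rw [← e, pow_zero, orderOf_one] at h2
      omega
    · left; rw [← e, pow_one]
    · right; rw [← e, pow_two]
  have hgy : g • y' = y' := by
    have h1 := t'.gy
    rcases hgg with e | e
    · rwa [e] at h1
    · rw [e, mul_smul] at h1
      have h2 := t.ggg' y'
      rw [h1] at h2
      exact h2
  have hsum : c' + g • c' + g • g • c' = 0 := by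
    have h1 := t'.sum
    rcases hgg with e | e
    · rwa [e] at h1
    · rw [e, mul_smul, mul_smul, t.ggg'] at h1
      rw [← h1]; abel
  have h3 : c - c' = y' - y := by
    rw [sub_eq_sub_iff_add_eq_add, ← t.add, t'.add, add_comm]
  have h5 : c - c' = 0 := by
    refine eq_zero (g := g) h.two ?_ ?_
    · rw [h3, smul_sub, t.gy, hgy]
    · rw [smul_sub, smul_sub]
      calc c - c' + (g • c - g • c') + (g • g • c - g • g • c')
          = (c + g • c + g • g • c) - (c' + g • c' + g • g • c') := by abel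
        _ = 0 := by rw [t.sum, hsum, sub_zero]
  refine ⟨sub_eq_zero.mp h5, ?_⟩
  rw [h5] at h3
  exact (sub_eq_zero.mp h3.symm).symm

end Tv

end Cfsg.Agent.OddCyclic.EOJ.Alg
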