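import Cfsg.Agent.OddCyclic.EOJ.Pair

/-!
# Claim A: for a critical pair `(p, q)`, `n ≥ 3`, `W_q ∩ K_p` centralizes `W_p`

`all_gp`: every critical pair is good (`n ≥ 2`).
-/

set_option autoImplicit false
set_option linter.unusedSectionVars false
set_option linter.style.haveILetI false

namespace Cfsg.Agent.OddCyclic.EOJ.ClaimA

open Subgroup Cfsg Cfsg.Agent.ZN Cfsg.Agent.MinSimple.Geo Cfsg.Agent.OddCyclic.GeoC Cfsg.Agent.OddCyclic.BTwoA
  Cfsg.Agent.OddCyclic.EO.Line Cfsg.Agent.OddCyclic.EO.Base Cfsg.Agent.OddCyclic.EO.RepM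
  Cfsg.Agent.OddCyclic.EO.Fit Cfsg.Agent.OddCyclic.EO.FitB Cfsg.Agent.OddCyclic.EO.Sit Cfsg.Agent.MinSimple.SecRep
  Cfsg.Agent.OddCyclic.EO.Two Cfsg.Agent.OddCyclic.EOJ.Loc Cfsg.Agent.OddCyclic.EOJ.Alg
  Cfsg.Agent.OddCyclic.EOJ.Pair
open Cfsg.Agent.ZN.Block (conj_mem_of_normalizer conj_mem_of_normalizer' le_normalizer_of_forall
  mem_normalizer_of)

universe u

variable {G : Type u} [Group G] [Finite G] {T V : Subgroup G} {z : G} {M X : Type u} [AddCommGroup M] [Group X]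
  [DistribMulAction X M] {n : ℕ} {p q s x y : G}

/-! ### cardinalities -/

theorem card_ws_eq (hx : Pt z x) (hy : Pt z y) : Nat.card (ws V x) = Nat.card (ws V y) := by
  obtain ⟨g, rfl⟩ := hx
  obtain ⟨g', rfl⟩ := hy
  rw [← cj_ws, ← cj_ws, card_cj, card_cj]

theorem card_inf_eq (h : Odd T V z) {x' y' : G} (hc : Col V x y) (hc' : Col V x' y') :
    Nat.card ↥(ws V x ⊓ ws V y) = Nat.card ↥(ws V x' ⊓ ws V y') := by
  obtain ⟨g, hg1, hg2⟩ := EO.TwoEight.exists_conj h hc hc'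
  rw [← hg1, ← hg2, ← cj_ws, ← cj_ws, ← cj_inf, card_cj]

theorem inf_col (h : Odd T V z) (hc : Col V s q) : ws V s ⊓ ws V q = ws V q ⊓ ws V (s * q) ∧
    ws V s ⊓ ws V q = ws V s ⊓ ws V (s * q) := by
  obtain ⟨g, hg, hqg, h'⟩ := exists_odd_col h hc
  have hsq : s * q ≠ 1 := fun e => hc.2.2.1 (by
    have := mul_eq_one_iff_eq_inv.mp e
    rwa [h'.inv_eq hqg] at this)
  have hsqm : s * q ∈ cj g V := mul_mem h'.z_mem hqg
  have h1 := h'.inf_eq_dd h'.z_mem h'.z_ne hqg hc.2.1 hc.2.2.1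
  have h2 := h'.inf_eq_dd hqg hc.2.1 hsqm hsq (fun e => h'.z_ne (by simpa using e.symm))
  have h3 := h'.inf_eq_dd h'.z_mem h'.z_ne hsqm hsq (fun e => hc.2.1 (by simpa using e.symm))
  rw [ws_cj, ws_cj] at h1 h2 h3
  exact ⟨by rw [h1, h2], by rw [h1, h3]⟩

/-! ### `U_p` -/

theorem tt_comm (h : OddN T V z n) (hn : 3 ≤ n) (hp : Pt z p) {a b : G} (ha : a ∈ tt V 1 p) (hb : b ∈ tt V 1 p) :
    a * b = b * a := by
  have h1 : tt V 1 p ≤ centralizer (tt V 1 p : Set G) := by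
    refine tt_le fun w hw => ?_
    rw [Subgroup.le_centralizer_iff]
    refine tt_le fun w' hw' => ?_
    have h2 : Walk V 2 w w' := hw.symm.trans hw'
    exact comm_of_walk h (Walk.pt h.toGeoC hp hw) (by omega) h2
  exact mem_centralizer_iff.mp (h1 hb) a ha

theorem tt_sq (h : OddN T V z n) (hn : 3 ≤ n) (hp : Pt z p) {a : G} (ha : a ∈ tt V 1 p) : a * a = 1 := by
  let A : Subgroup G :=
    { carrier := {a | a ∈ tt V 1 p ∧ a * a = 1}
      mul_mem' := by
        rintro a b ⟨ha, ha1⟩ ⟨hb, hb1⟩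
        refine ⟨mul_mem ha hb, ?_⟩
        calc a * b * (a * b) = a * (b * a) * b := by group
          _ = (a * a) * (b * b) := by rw [tt_comm h hn hp hb ha]; group
          _ = 1 := by rw [ha1, hb1, one_mul]
      one_mem' := ⟨one_mem _, one_mul 1⟩
      inv_mem' := by
        rintro a ⟨ha, ha1⟩
        refine ⟨inv_mem ha, ?_⟩
        have : a⁻¹ * a⁻¹ = (a * a)⁻¹ := by group
        rw [this, ha1, inv_one] }
  have h1 : tt V 1 p ≤ A := tt_le fun w hw a ha => ⟨ws_le_tt hw ha, ws_sq h.toOdd (Walk.pt h.toGeoC hp hw) ha⟩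
  exact (h1 ha).2

theorem tt_le_cent (h : OddN T V z n) (hn : 2 ≤ n) (hp : Pt z p) : tt V 1 p ≤ centralizer ({p} : Set G) := by
  refine (tt_le_centralizer_ws h (j := 1) (by omega) hp).trans (centralizer_le ?_)
  rintro _ rfl
  exact self_mem_ws h.toGeoC hp

theorem conj_mem_tt {c u : G} (hc : c * p = p * c) (hu : u ∈ tt V 1 p) : c * u * c⁻¹ ∈ tt V 1 p := by
  have h1 := conj_mem_cj (g := c) hu
  rwa [cj_tt, hc, mul_inv_cancel_right] at h1

theorem exists_col_move {b : G} (hb : b ∉ centralizer (ws V p : Set G))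
    (hbp : b * p = p * b) (hp1 : p ≠ 1) : ∃ x, Col V p x ∧ b * x ≠ x * b := by
  by_contra hcon
  push Not at hcon
  apply hb
  have h1 : ws V p ≤ centralizer ({b} : Set G) := by
    refine ws_le fun L hL w hw => ?_
    rw [mem_centralizer_singleton_iff]
    by_cases hw1 : w = 1
    · rw [hw1, one_mul, mul_one]
    · by_cases hwp : w = p
      · rw [hwp, hbp]
      · exact (hcon w ⟨hp1, hw1, Ne.symm hwp, L, hL, hw⟩).symm
  exact mem_centralizer_iff.mpr fun w hw => mem_centralizer_singleton_iff.mp (h1 hw)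

/-- range of `m ↦ a • m - m` -/
def rg (M : Type u) [AddCommGroup M] [DistribMulAction X M] (a : X) : M →+ M where
  toFun m := a • m - m
  map_zero' := by simp
  map_add' m m' := by rw [smul_add]; abel

theorem card_rg [Finite M] [Finite X] (a : X) : Nat.card M = Nat.card (fx (zpowers a) (⊤ : AddSubgroup M)) * Nat.card (rg M a).range := by
  have h1 : Nat.card M = Nat.card (rg M a).ker * Nat.card (rg M a).range := by
    rw [AddSubgroup.card_eq_card_quotient_mul_card_addSubgroup (rg M a).ker, mul_comm,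
      Nat.card_congr (QuotientAddGroup.quotientKerEquivRange (rg M a)).toEquiv]
  have h2 : (rg M a).ker = fx (zpowers a) (⊤ : AddSubgroup M) := by
    ext m
    constructor
    · intro hm
      have h3 : a • m - m = 0 := hm
      exact fx_zpowers (AddSubgroup.mem_top m) (sub_eq_zero.mp h3)
    · intro hm
      have h3 : a • m = m := hm.2 a (mem_zpowers a)
      change a • m - m = 0
      rw [h3, sub_self]
  rw [← h2]; exact h1

/-- the count (3.1)-(3.3) -/
theorem key (h : OddN T V z n) (hn : 3 ≤ n) (hc : Crit V z n p q) {b : G} (hb : b ∈ ws V q)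
    (hpq : p ∈ ws V q) (hx : Col V p x) (hbx : b * x * b⁻¹ = p * x) :
    4 * Nat.card ↥(ws V x ⊓ centralizer ({q} : Set G)) ≤ Nat.card (ws V x) := by
  have hp : Pt z p := hc.pt
  have hq : Pt z q := hc.pt' h.toGeoC
  have hxp : Pt z x := hx.pt h.toGeoC
  have hWq := ws_le_q h hc
  have hWp := ws_le_q h (hc.symm h.toOdd)
  obtain ⟨M, X, _, _, _, ⟨R⟩⟩ := exists_rep h.toOdd hq
  haveI : Finite M := R.finite_left
  haveI : Finite X := R.finite_right
  obtain ⟨F, ft⟩ := exists_ft h.toOdd hq R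
  obtain ⟨s, hs, hws⟩ := exists_last h hc
  have hpp : p * p = 1 := Pt.sq h.toGeoC hp
  have hpinv : p⁻¹ = p := inv_eq_of_mul_eq_one_left hpp
  have hxW : x ∈ ws V p := hx.mem_ws
  have hWxU : ws V x ≤ tt V 1 p := ws_le_tt hx.walk
  have hWpU : ws V p ≤ tt V 1 p := ws_le_tt (Walk.refl V 1 p)
  -- `U`
  set U := tt V 1 p ⊓ centralizer ({q} : Set G) with hU
  have hUq : U ≤ centralizer ({q} : Set G) := inf_le_right
  have hUsq : ∀ u ∈ U, u * u = 1 := fun u hu => tt_sq h hn hp hu.1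
  have hUab : ∀ u ∈ U, ∀ u' ∈ U, u * u' = u' * u := fun u hu u' hu' => tt_comm h hn hp hu.1 hu'.1
  have hUn : ∀ c : G, c * p = p * c → c * q = q * c → ∀ u ∈ U, c * u * c⁻¹ ∈ U := by
    intro c hcp hcq u hu
    refine ⟨conj_mem_tt hcp hu.1, ?_⟩
    have hc1 : c ∈ centralizer ({q} : Set G) := mem_centralizer_singleton_iff.mpr hcq
    exact (centralizer ({q} : Set G)).mul_mem ((centralizer ({q} : Set G)).mul_mem hc1 hu.2)
      ((centralizer ({q} : Set G)).inv_mem hc1)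
  have hcommU : ∀ {u w : G}, u ∈ tt V 1 p → w ∈ ws V q → u * w * u⁻¹ * w⁻¹ ∈ tt V 1 p := by
    intro u w hu hw
    have h1 := conj_mem_tt (mem_centralizer_singleton_iff.mp (hWp hw)) (inv_mem hu)
    have e : u * w * u⁻¹ * w⁻¹ = u * (w * u⁻¹ * w⁻¹) := by group
    rw [e]; exact mul_mem hu h1
  have hquad := img_quad R hUq (fun u hu u' hu' w hw => tt_comm h hn hp hu.1 (hcommU hu'.1 hw))
  have hU2 : IsPGroup 2 (R.img U) := by
    rintro ⟨a, ha⟩
    refine ⟨1, ?_⟩
    apply Subtype.ext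
    change a ^ 2 ^ 1 = 1
    rw [pow_one, pow_two]
    exact img_sq R hUq hUsq a ha
  obtain ⟨f, hf, hfix⟩ := ft.exists_fix hs hU2
  obtain ⟨hamb, hgood⟩ := ft.amb' h.toOdd hq hs (img_ab R hUq hUab) (img_sq R hUq hUsq) hf hfix
  have hxU : x ∈ U := ⟨hWpU hxW, hWq hxW⟩
  set a := R.rho x with ha
  have haU : a ∈ R.img U := R.rho_mem_img hUq hxU
  have hxb : x * b * x⁻¹ * b⁻¹ = p := by
    have e : x * b * x⁻¹ * b⁻¹ = ((b * x * b⁻¹) * x⁻¹)⁻¹ := by group
    rw [e, hbx, mul_inv_cancel_right, hpinv]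
  have hab : a • R.pi b - R.pi b = R.pi p := by
    rw [smul_sub_pi R (hUq hxU) hb, hxb]
  have hall : ∀ u ∈ R.img U, ∀ g ∈ F, ∀ r j : ℕ, r.Prime → orderOf g = r ^ j → g ≠ 1 → u * g * u⁻¹ = g⁻¹ →
      a * g * a⁻¹ = g⁻¹ := by
    intro u hu g hg r j hr ho hg1 hi
    refine inv_of_move hamb hgood hquad haU hu hg hr (prime_ne_two (odd_of_mem ft.odd hg) ho hg1) ho hi
      (b0 := R.pi b) ?_
    rw [hab]
    exact cp_ws h hc R hpq hUq hUsq hUn ft hu hg hr ho hg1 hi
  have hsub := fun {u : X} (hu : u ∈ R.img U) (m : M) => quad_sub hamb hgood hquad haU hall hu m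
  set Rg := (rg M a).range with hRg
  -- (3.1)
  have hI := card_inf_eq h.toOdd hs hx
  have hJle : ws V q ⊓ ws V s ≤ ws V q := inf_le_left
  have hqJ : q ∈ ws V q ⊓ ws V s := ⟨self_mem_ws h.toGeoC hq, hs.symm.mem_ws⟩
  have hJ := card_push h.toOdd hq R hJle hqJ
  have hWps : ws V p ≤ centralizer (ws V s : Set G) :=
    comm_of_walk h (hs.pt h.toGeoC) (Nat.sub_lt h.pos Nat.one_pos) hws.symm
  have hJfx : push R (ws V q ⊓ ws V s) hJle ≤ fx (zpowers a) (⊤ : AddSubgroup M) := by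
    rintro _ ⟨d, hd, rfl⟩
    refine fx_zpowers (AddSubgroup.mem_top _) ?_
    exact smul_of_comm R (hWq hxW) hd.1 (mem_centralizer_iff.mp (hWps hxW) d hd.2).symm
  have hpfx : R.pi p ∈ fx (zpowers a) (⊤ : AddSubgroup M) := by
    refine fx_zpowers (AddSubgroup.mem_top _) ?_
    exact smul_of_comm R (hWq hxW) hpq (ws_comm h.toOdd hp hxW (self_mem_ws h.toGeoC hp))
  have hpJ : R.pi p ∉ push R (ws V q ⊓ ws V s) hJle := by
    rintro ⟨d, hd, hdp⟩
    apply star h (by omega) hc hs hws hpq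
    rcases (Rep.pi_eq_pi h.toOdd hq R hd.1 hpq).mp hdp with e | e
    · rw [← e]; exact hd.2
    · have e2 : p = q * d := by
        rw [e, ← mul_assoc, Pt.sq h.toGeoC hq, one_mul]
      rw [e2]; exact mul_mem hs.symm.mem_ws hd.2
  have hJ2 : 2 * Nat.card (push R (ws V q ⊓ ws V s) hJle) ≤ Nat.card (fx (zpowers a) (⊤ : AddSubgroup M)) := by
    have h1 := inf_le_card (N := fx (zpowers a) (⊤ : AddSubgroup M)) (U := push R (ws V q ⊓ ws V s) hJle)
      (W := AddSubgroup.zmultiples (R.pi p)) hJfx (by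
        rw [AddSubgroup.zmultiples_le]; exact hpfx) (by
        rw [eq_bot_iff]
        rintro m ⟨hm1, hm2⟩
        rw [AddSubgroup.mem_bot]
        obtain ⟨k, rfl⟩ := AddSubgroup.mem_zmultiples_iff.mp hm2
        rcases Int.even_or_odd' k with ⟨j, rfl | rfl⟩
        · rw [mul_comm, mul_zsmul, two_zsmul, Rep.two h.toOdd hq R, zsmul_zero]
        · exfalso
          apply hpJ
          have e : (2 * j + 1) • R.pi p = R.pi p := by
            rw [add_zsmul, mul_comm, mul_zsmul, two_zsmul, Rep.two h.toOdd hq R, zsmul_zero, zero_add, one_zsmul]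
          rw [e] at hm1
          exact hm1)
    have h2 : 2 ≤ Nat.card (AddSubgroup.zmultiples (R.pi p)) := by
      refine two_le_card (AddSubgroup.mem_zmultiples (R.pi p)) fun e => hpJ ?_
      rw [e]; exact zero_mem _
    calc 2 * Nat.card (push R (ws V q ⊓ ws V s) hJle) = Nat.card (push R (ws V q ⊓ ws V s) hJle) * 2 := mul_comm _ _
      _ ≤ _ := (Nat.mul_le_mul_left _ h2).trans h1
  have hM := card_M h.toOdd hq R
  have hMr := card_rg (M := M) a
  have hWeq : Nat.card (ws V q) = Nat.card (ws V x) := card_ws_eq hq hxp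
  -- `2 |Rg| I ≤ |W|`
  have h31 : 2 * (Nat.card Rg * Nat.card ↥(ws V p ⊓ ws V x)) ≤ Nat.card (ws V x) := by
    rw [← hWeq, hM, hMr, ← hI, hJ]
    calc 2 * (Nat.card Rg * (2 * Nat.card (push R (ws V q ⊓ ws V s) hJle)))
        ≤ 2 * (Nat.card Rg * Nat.card (fx (zpowers a) (⊤ : AddSubgroup M))) :=
          Nat.mul_le_mul_left _ (Nat.mul_le_mul_left _ hJ2)
      _ = _ := by ring
  -- `D`
  set D := ws V x ⊓ centralizer ({b} : Set G) with hD
  have hDinf : D ≤ ws V p ⊓ ws V x := by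
    intro d hd
    have hdb : b * d * b⁻¹ = d := by
      rw [← mem_centralizer_singleton_iff.mp hd.2, mul_inv_cancel_right]
    have h1 : b * d * b⁻¹ ∈ ws V (b * x * b⁻¹) := by rw [← cj_ws]; exact conj_mem_cj hd.1
    rw [hdb, hbx] at h1
    rw [(inf_col h.toOdd hx).1]
    exact ⟨hd.1, h1⟩
  have hxD : x ∉ D := by
    intro hxD
    have h1 := mem_centralizer_singleton_iff.mp hxD.2
    have h2 : b * x * b⁻¹ = x := by rw [← h1, mul_inv_cancel_right]
    rw [hbx] at h2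
    exact hx.1 (by simpa using h2)
  have hD2 : 2 * Nat.card D ≤ Nat.card ↥(ws V p ⊓ ws V x) :=
    EO.Count.two_mul_card_le hDinf ⟨hxW, self_mem_ws h.toGeoC hxp⟩ hxD
  -- the homomorphism
  set W0 := ws V x ⊓ centralizer ({q} : Set G) with hW0
  have hW0U : W0 ≤ U := fun g hg => ⟨hWxU hg.1, hg.2⟩
  have hcm : ∀ {g : G}, g ∈ W0 → b * g * b⁻¹ * g⁻¹ ∈ tt V 1 p ⊓ pull R Rg := by
    intro g hg
    have hgU := hW0U hg
    have h1 := hcommU (hWxU hg.1) hb
    have e : b * g * b⁻¹ * g⁻¹ = (g * b * g⁻¹ * b⁻¹)⁻¹ := by group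
    have h2 : g * b * g⁻¹ * b⁻¹ ∈ ws V q := mul_mem (R.conj_mem (hUq hgU) hb) (inv_mem hb)
    rw [e]
    refine inv_mem ⟨h1, h2, ?_⟩
    rw [← smul_sub_pi R (hUq hgU) hb]
    obtain ⟨m', hm'⟩ := hsub (R.rho_mem_img hUq hgU) (R.pi b)
    exact ⟨m', hm'.symm⟩
  let ψ : W0 →* ↥(tt V 1 p ⊓ pull R Rg) :=
    { toFun := fun g => ⟨b * g * b⁻¹ * (g : G)⁻¹, hcm g.2⟩
      map_one' := Subtype.ext (by simp)
      map_mul' := by
        intro g g'
        apply Subtype.ext
        change b * ((g : G) * g') * b⁻¹ * ((g : G) * g')⁻¹ = (b * g * b⁻¹ * (g : G)⁻¹) * (b * g' * b⁻¹ * (g' : G)⁻¹)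
        have e1 := tt_comm h hn hp (hWxU g.2.1) (hcm g'.2).1
        have e2 := tt_comm h hn hp (hWxU g.2.1) (hWxU g'.2.1)
        calc b * ((g : G) * g') * b⁻¹ * ((g : G) * g')⁻¹
            = (b * g * b⁻¹ * (g : G)⁻¹) * ((g : G) * (b * g' * b⁻¹ * (g' : G)⁻¹)) * (g' * ((g : G) * g')⁻¹) := by group
          _ = (b * g * b⁻¹ * (g : G)⁻¹) * ((b * g' * b⁻¹ * (g' : G)⁻¹) * g) * (g' * ((g : G) * g')⁻¹) := by rw [e1]
          _ = (b * g * b⁻¹ * (g : G)⁻¹) * (b * g' * b⁻¹ * (g' : G)⁻¹) := by group }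
  have hψker : Nat.card ψ.ker ≤ Nat.card D := by
    have hmem : ∀ g : ψ.ker, ((g : W0) : G) ∈ D := by
      intro g
      have h1 : b * ((g : W0) : G) * b⁻¹ * ((g : W0) : G)⁻¹ = 1 := congrArg Subtype.val g.2
      refine ⟨(g : W0).2.1, mem_centralizer_singleton_iff.mpr ?_⟩
      calc ((g : W0) : G) * b = (b * ((g : W0) : G) * b⁻¹ * ((g : W0) : G)⁻¹) * (((g : W0) : G) * b) := by rw [h1, one_mul]
        _ = b * ((g : W0) : G) := by group
    refine Nat.card_le_card_of_injective (fun g : ψ.ker => (⟨((g : W0) : G), hmem g⟩ : D)) ?_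
    · intro g g' hgg
      have h1 : ((g : W0) : G) = ((g' : W0) : G) := congrArg (fun y : D => (y : G)) hgg
      exact Subtype.ext (Subtype.ext h1)
  have hψ : Nat.card W0 ≤ Nat.card D * Nat.card ↥(tt V 1 p ⊓ pull R Rg) := by
    rw [Subgroup.card_eq_card_quotient_mul_card_subgroup ψ.ker, mul_comm]
    refine Nat.mul_le_mul hψker ?_
    rw [Nat.card_congr (QuotientGroup.quotientKerEquivRange ψ).toEquiv]
    exact Nat.card_le_card_of_injective _ Subtype.val_injective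
  have hpull := card_pull h.toOdd hq R Rg
  by_cases hqU : q ∈ tt V 1 p
  · exfalso
    have e0 : W0 = ws V x := by
      refine le_antisymm inf_le_left fun w hw => ⟨hw, mem_centralizer_singleton_iff.mpr ?_⟩
      exact tt_comm h hn hp (hWxU hw) hqU
    rw [e0] at hψ
    have h1 : Nat.card ↥(tt V 1 p ⊓ pull R Rg) ≤ 2 * Nat.card Rg := by
      rw [← hpull]; exact card_le_of_le inf_le_right
    have h2 : Nat.card (ws V x) ≤ Nat.card D * (2 * Nat.card Rg) := hψ.trans (Nat.mul_le_mul_left _ h1)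
    have h3 : Nat.card D * (2 * Nat.card Rg) ≤ Nat.card ↥(ws V p ⊓ ws V x) * Nat.card Rg := by
      calc Nat.card D * (2 * Nat.card Rg) = 2 * Nat.card D * Nat.card Rg := by ring
        _ ≤ _ := Nat.mul_le_mul_right _ hD2
    have h4 : 0 < Nat.card (ws V x) := Nat.card_pos
    nlinarith
  · have h1 : 2 * Nat.card ↥(tt V 1 p ⊓ pull R Rg) ≤ 2 * Nat.card Rg := by
      rw [← hpull]
      exact EO.Count.two_mul_card_le inf_le_right (self_mem_pull h.toOdd hq R Rg) fun h2 => hqU h2.1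
    have h2 : Nat.card ↥(tt V 1 p ⊓ pull R Rg) ≤ Nat.card Rg := by omega
    have h3 : Nat.card W0 ≤ Nat.card D * Nat.card Rg := hψ.trans (Nat.mul_le_mul_left _ h2)
    have h4 : 2 * (Nat.card D * Nat.card Rg) ≤ Nat.card ↥(ws V p ⊓ ws V x) * Nat.card Rg := by
      calc 2 * (Nat.card D * Nat.card Rg) = 2 * Nat.card D * Nat.card Rg := by ring
        _ ≤ _ := Nat.mul_le_mul_right _ hD2
    calc 4 * Nat.card W0 ≤ 4 * (Nat.card D * Nat.card Rg) := Nat.mul_le_mul_left _ h3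
      _ = 2 * (2 * (Nat.card D * Nat.card Rg)) := by ring
      _ ≤ 2 * (Nat.card ↥(ws V p ⊓ ws V x) * Nat.card Rg) := Nat.mul_le_mul_left _ h4
      _ = 2 * (Nat.card Rg * Nat.card ↥(ws V p ⊓ ws V x)) := by ring
      _ ≤ _ := h31

/-- **(R1)** -/
theorem r_one (h : OddN T V z n) (hc : Crit V z n p q) (h4 : 4 * Nat.card (cw V q p) ≤ Nat.card (ws V q)) :
    p ∈ ws V q := by
  by_contra hpq
  have hc' := hc.symm h.toOdd
  have hq : Pt z q := hc.pt' h.toGeoC
  have hpos : 0 < Nat.card (cw V q p) := Nat.card_pos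
  have h2 : ws V q ⊓ kq V p ≤ centralizer (ws V p : Set G) := by
    intro b hb
    by_contra hbn
    exact hpq (r_zero h hc hb.1 hb.2 hbn).1
  by_cases h1 : ws V p ⊓ kq V q ≤ centralizer (ws V q : Set G)
  · obtain ⟨v, hv⟩ := gp_of h hc h1 h2
    have := hv.cq
    omega
  · obtain ⟨e, he, hen⟩ := Set.not_subset.mp h1
    have h3 := (r_zero h hc' he.1 he.2 hen).2
    obtain ⟨u0, hu0, hu0n⟩ := exists_not_mem hc'
    have h5 : Nat.card (ws V q) ≤ 2 * Nat.card (cw V q p) := by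
      refine EO.Fit.two_mul_le (fun u hu u' hu' hun hu'n => ?_) ⟨u0, hu0, fun h6 => hu0n h6.2⟩
      have hcent : ∀ {u}, u ∈ ws V q → u ∉ cw V q p → e * u * e⁻¹ = q * u := by
        intro u hu hun
        rcases kq_cases h.toOdd hq he.2 hu with e1 | e1
        · exfalso
          apply hun
          exact ⟨hu, h2 ⟨hu, h3 u hu e1.symm⟩⟩
        · calc e * u * e⁻¹ = (e * u * e⁻¹ * u⁻¹) * u := by group
            _ = q * u := by rw [e1]
      have hqu : q * u = u * q := ws_comm h.toOdd hq (self_mem_ws h.toGeoC hq) hu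
      have h6 : e * (u * u') * e⁻¹ = u * u' := by
        calc e * (u * u') * e⁻¹ = (e * u * e⁻¹) * (e * u' * e⁻¹) := by group
          _ = (q * u) * (q * u') := by rw [hcent hu hun, hcent hu' hu'n]
          _ = u * (q * q) * u' := by rw [hqu]; group
          _ = u * u' := by rw [Pt.sq h.toGeoC hq, mul_one]
      exact ⟨mul_mem hu hu', h2 ⟨mul_mem hu hu', h3 _ (mul_mem hu hu') (mul_inv_eq_iff_eq_mul.mp h6).symm⟩⟩
    omega

/-- **Claim A** -/
theorem claim_a (h : OddN T V z n) (hn : 3 ≤ n) (hc : Crit V z n p q) :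
    ws V q ⊓ kq V p ≤ centralizer (ws V p : Set G) := by
  intro b hb
  by_contra hbn
  have hp : Pt z p := hc.pt
  have hp1 : p ≠ 1 := Pt.ne_one h.toGeoC hp
  have hpp : p * p = 1 := Pt.sq h.toGeoC hp
  have hpq := (r_zero h hc hb.1 hb.2 hbn).1
  have hbp : b * p = p * b := mem_centralizer_singleton_iff.mp (ws_le_q h (hc.symm h.toOdd) hb.1)
  obtain ⟨x, hx, hbx'⟩ := exists_col_move hbn hbp hp1
  have hbx : b * x * b⁻¹ = p * x := by
    have h1 := (kq_cases h.toOdd hp hb.2 hx.mem_ws).resolve_left hbx'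
    calc b * x * b⁻¹ = (b * x * b⁻¹ * x⁻¹) * x := by group
      _ = p * x := by rw [h1]
  have hbx2 : b * (p * x) * b⁻¹ = p * (p * x) := by
    calc b * (p * x) * b⁻¹ = (b * p) * x * b⁻¹ := by group
      _ = p * (b * x * b⁻¹) := by rw [hbp]; group
      _ = p * (p * x) := by rw [hbx]
  obtain ⟨hx2, hxx2⟩ := col_mul h.toOdd hx
  obtain ⟨s, hs, hws⟩ := exists_last h hc
  have hs' : Pt z s := hs.pt h.toGeoC
  have hqs : q ∈ ws V s := hs.symm.mem_ws
  -- `s ∈ W_x` for both points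
  have hmem : ∀ {x : G}, Col V p x → b * x * b⁻¹ = p * x → s ∈ ws V x ∧ Crit V z n s x := by
    intro x hx hbx
    have h1 := key h hn hc hb.1 hpq hx hbx
    have h2 : cw V x s ≤ ws V x ⊓ centralizer ({q} : Set G) := fun w hw =>
      ⟨hw.1, mem_centralizer_singleton_iff.mpr (mem_centralizer_iff.mp hw.2 q hqs).symm⟩
    have h3 := card_le_of_le h2
    have hpos : 0 < Nat.card (cw V x s) := Nat.card_pos
    have hcr : Crit V z n s x := by
      have hw : Walk V n s x := by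
        have h4 := hws.symm.trans hx.walk
        have e : n - 1 + 1 = n := by omega
        rwa [e] at h4
      refine ⟨hs', hw, ?_⟩
      by_contra hcon
      push Not at hcon
      have h5 : cw V x s = ws V x := le_antisymm (cw_le V x s) fun w hw =>
        ⟨hw, mem_centralizer_iff.mpr fun a ha => hcon a ha w hw⟩
      rw [h5] at h3 hpos
      omega
    exact ⟨r_one h hcr (by omega), hcr⟩
  obtain ⟨h1, hcr⟩ := hmem hx hbx
  obtain ⟨h2, -⟩ := hmem hx2 hbx2
  have h3 : s ∈ ws V p ⊓ ws V x := by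
    rw [(inf_col h.toOdd hx).1]; exact ⟨h1, h2⟩
  have hnw : ∀ {m : ℕ}, m ≤ n - 2 → ¬ Walk V m p s := by
    intro m hm hw
    have h4 := hw.trans hs.symm.walk
    exact hc.not_walk h (m := m + 1) (by omega) h4
  obtain ⟨k, hk, hkx, -⟩ := swap_two h.toOdd hx.symm h1 h3.1 (Pt.ne_one h.toGeoC hs')
    (fun e => hnw (m := 1) (by omega) (by rw [e]; exact hx.walk))
    (fun e => hnw (m := 0) (by omega) e.symm)
    (fun e => hnw (m := 1) (by omega) (by
      rw [e, hx.symm.mul_comm h.toOdd]; exact hx2.walk))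
  have h5 := hcr.conj k
  rw [hk, mul_inv_cancel_right, hkx] at h5
  exact h5.not_walk h (m := n - 1) (by omega) hws.symm

/-- **every critical pair is good** -/
theorem all_gp (h : OddN T V z n) (hn : 2 ≤ n) (hc : Crit V z n p q) : ∃ v, GP V p q v := by
  have hc' := hc.symm h.toOdd
  rcases Nat.lt_or_ge n 3 with h2 | h3
  · -- `n = 2`
    have key2 : ∀ {p q : G}, Crit V z n p q → ws V q ⊓ kq V p ≤ centralizer (ws V p : Set G) := by
      intro p q hc b hb
      by_contra hbn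
      have hpq := (r_zero h hc hb.1 hb.2 hbn).1
      obtain ⟨s, hs, hws⟩ := exists_last h hc
      have hn1 : n - 1 = 1 := by omega
      have hws1 : Walk V 1 p s := by rw [hn1] at hws; exact hws
      apply star h hn hc hs hws hpq
      rcases walk_one.mp hws1 with e | e
      · rw [e]; exact self_mem_ws h.toGeoC (hs.pt h.toGeoC)
      · exact e.symm.mem_ws
    exact gp_of h hc (key2 hc') (key2 hc)
  · exact gp_of h hc (claim_a h h3 hc') (claim_a h h3 hc)

end Cfsg.Agent.OddCyclic.EOJ.ClaimA
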