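import Cfsg.Agent.OddCyclic.EOJ.Str

/-!
# (Y2), (E), (4.2)
-/

set_option autoImplicit false
set_option linter.unusedSectionVars false
set_option linter.style.haveILetI false

namespace Cfsg.Agent.OddCyclic.EOJ.EE

open Subgroup Cfsg Cfsg.Agent.ZN Cfsg.Agent.MinSimple.Geo Cfsg.Agent.OddCyclic.GeoC Cfsg.Agent.OddCyclic.BTwoA
  Cfsg.Agent.OddCyclic.EO.Line Cfsg.Agent.OddCyclic.EO.Base Cfsg.Agent.OddCyclic.EO.RepM
  Cfsg.Agent.OddCyclic.EO.Fit Cfsg.Agent.OddCyclic.EO.FitB Cfsg.Agent.OddCyclic.EO.Sit Cfsg.Agent.MinSimple.SecRep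
  Cfsg.Agent.OddCyclic.EO.Two Cfsg.Agent.OddCyclic.EOJ.Loc Cfsg.Agent.OddCyclic.EOJ.Alg
  Cfsg.Agent.OddCyclic.EOJ.Pair Cfsg.Agent.OddCyclic.EOJ.ClaimA Cfsg.Agent.OddCyclic.EOJ.Str
  Cfsg.Agent.OddCyclic.EOJ.Str.St
open Cfsg.Agent.ZN.Block (conj_mem_of_normalizer conj_mem_of_normalizer' le_normalizer_of_forall
  mem_normalizer_of)

universe u

variable {G : Type u} [Group G] [Finite G] {T V : Subgroup G} {z : G} {M X : Type u} [AddCommGroup M] [Group X]
  [DistribMulAction X M] {n : ℕ} {p q r v f η : G} {R : Rep V p M X} {F : Subgroup X} {g : X} {y0 : M}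

/-- the subgroup `{0, a, b, a + b}` -/
def sp (two : ∀ m : M, m + m = 0) (a b : M) : AddSubgroup M where
  carrier := {m | m = 0 ∨ m = a ∨ m = b ∨ m = a + b}
  add_mem' := by
    have e1 : a + (a + b) = b := by rw [← add_assoc, two, zero_add]
    have e5 : b + a = a + b := add_comm b a
    have e3 : a + b + a = b := by rw [add_comm (a + b), e1]
    have e4 : a + b + b = a := by rw [add_assoc, two, add_zero]
    have e2 : b + (a + b) = a := by rw [add_comm, e4]
    rintro x y (hx | hx | hx | hx) (hy | hy | hy | hy) <;> rw [hx, hy] <;>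
      change _ = 0 ∨ _ = a ∨ _ = b ∨ _ = a + b <;>
      simp only [zero_add, add_zero, two, e1, e2, e3, e4, e5, true_or, or_true]
  zero_mem' := Or.inl rfl
  neg_mem' := by
    have h1 : ∀ m : M, -m = m := fun m => neg_eq_of_add_eq_zero_left (two m)
    intro m hm
    rw [h1]; exact hm

theorem mem_sp {two : ∀ m : M, m + m = 0} {a b m : M} : m ∈ sp two a b ↔ m = 0 ∨ m = a ∨ m = b ∨ m = a + b := Iff.rfl

/-! ### `x = η r η⁻¹` -/

/-- the data of the odd lift `η` -/
structure Et (R : Rep V p M X) (g : X) (η : G) : Prop where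
  mem : η ∈ centralizer ({p} : Set G)
  rho : R.rho η = g
  odd : _root_.Odd (orderOf η)

theorem Et.conj_p (e : Et R g η) : η * p * η⁻¹ = p := by
  rw [mem_centralizer_singleton_iff.mp e.mem, mul_inv_cancel_right]

theorem eta_y (h : OddN T V z n) (s : St V z n p q r v f R F g y0) (e : Et R g η) : η * (r * v) = r * v * η := by
  refine comm_of_smul h.toOdd s.pt R e.mem e.odd s.y_mem ?_
  rw [e.rho, s.pi_y h, s.tv.gy]

theorem x_mem (s : St V z n p q r v f R F g y0) (e : Et R g η) : η * r * η⁻¹ ∈ ws V p := R.conj_mem e.mem s.r_mem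

theorem pi_x (s : St V z n p q r v f R F g y0) (e : Et R g η) : R.pi (η * r * η⁻¹) = g • R.pi v + y0 := by
  rw [← R.smul_pi η e.mem r s.r_mem, e.rho, s.tv.add, smul_add, s.tv.gy]

theorem col_x (s : St V z n p q r v f R F g y0) (e : Et R g η) : Col V p (η * r * η⁻¹) := by
  have h1 := s.hr.conj η
  rwa [e.conj_p] at h1

/-- `η v η⁻¹ = x y` -/
theorem eta_v (h : OddN T V z n) (s : St V z n p q r v f R F g y0) (e : Et R g η) :
    η * v * η⁻¹ = (η * r * η⁻¹) * (r * v) := by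
  have h1 := eta_y h s e
  have h2 : r * r = 1 := s.sq_p h s.r_mem
  calc η * v * η⁻¹ = η * ((r * r) * v) * η⁻¹ := by rw [h2, one_mul]
    _ = (η * r * η⁻¹) * (η * (r * v)) * η⁻¹ := by group
    _ = (η * r * η⁻¹) * (r * v) := by rw [h1]; group

theorem f_x (h : OddN T V z n) (s : St V z n p q r v f R F g y0) (e : Et R g η) :
    f * (η * r * η⁻¹) * f⁻¹ = (η * r * η⁻¹) * v := by
  haveI := s.finite_X
  haveI := s.finite_M
  refine s.f_move h (x_mem s e) ?_
  rw [pi_x s e, smul_add, s.tv.agc (s.two h), s.tv.fixa y0 s.tv.gy]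
  intro h1
  apply s.tv.c0
  have h2 : g • R.pi v + R.pi v = g • R.pi v := add_right_cancel h1
  simpa using h2

/-- `η⁻¹ r η` -/
theorem f_xm (h : OddN T V z n) (s : St V z n p q r v f R F g y0) (e : Et R g η) :
    f * (η⁻¹ * r * η) * f⁻¹ = (η⁻¹ * r * η) * v := by
  haveI := s.finite_X
  haveI := s.finite_M
  have tv := s.tv
  have hmem : η⁻¹ * r * η ∈ ws V p := by
    have := R.conj_mem (inv_mem e.mem) s.r_mem
    rwa [inv_inv] at this
  have hpi : R.pi (η⁻¹ * r * η) = R.pi v + g • R.pi v + y0 := by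
    have h1 := R.smul_pi η⁻¹ (inv_mem e.mem) r s.r_mem
    rw [inv_inv] at h1
    have h2 : g⁻¹ = g * g := by
      rw [inv_eq_iff_mul_eq_one, ← mul_assoc]; exact tv.ggg
    rw [← h1, R.rho_inv e.mem, e.rho, h2, mul_smul, tv.add, smul_add, smul_add, tv.gy, tv.gy, tv.ggc (s.two h)]
  refine s.f_move h hmem ?_
  rw [hpi, smul_add, smul_add, tv.ac, tv.agc (s.two h), tv.fixa y0 tv.gy]
  intro h1
  apply tv.c0
  have h2 : R.pi v + (g • R.pi v + R.pi v) = R.pi v + g • R.pi v := add_right_cancel h1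
  have h3 : g • R.pi v + R.pi v = g • R.pi v := add_left_cancel h2
  simpa using h3

/-- `f^η` maps `r` to `x v` -/
theorem fe_r (h : OddN T V z n) (s : St V z n p q r v f R F g y0) (e : Et R g η) :
    (η * f * η⁻¹) * r * (η * f * η⁻¹)⁻¹ = (η * r * η⁻¹) * v := by
  have h1 := f_xm h s e
  have h2 := eta_v h s e
  have hr2 : r * r = 1 := s.sq_p h s.r_mem
  have hrx := s.comm_p h s.r_mem (x_mem s e)
  calc (η * f * η⁻¹) * r * (η * f * η⁻¹)⁻¹ = η * (f * (η⁻¹ * r * η) * f⁻¹) * η⁻¹ := by group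
    _ = η * ((η⁻¹ * r * η) * v) * η⁻¹ := by rw [h1]
    _ = r * (η * v * η⁻¹) := by group
    _ = (r * (η * r * η⁻¹)) * r * v := by rw [h2]; group
    _ = (η * r * η⁻¹) * (r * r) * v := by rw [hrx]; group
    _ = (η * r * η⁻¹) * v := by rw [hr2, mul_one]

/-- `f^η` centralizes `W_x` -/
theorem fe_cent (h : OddN T V z n) (s : St V z n p q r v f R F g y0) :
    η * f * η⁻¹ ∈ centralizer (ws V (η * r * η⁻¹) : Set G) := conj_centralizer_ws' (s.comm_rq h s.hf)

theorem x_ne (h : OddN T V z n) (s : St V z n p q r v f R F g y0) (e : Et R g η) : (η * r * η⁻¹) * v ≠ r := by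
  haveI := s.finite_X
  haveI := s.finite_M
  intro h1
  have h2 := congrArg R.pi h1
  rw [R.pi_mul _ (x_mem s e) v s.gp.memp, pi_x s e, s.tv.add] at h2
  apply s.tv.gc_ne_zero
  have h3 : g • R.pi v + (R.pi v + y0) = 0 + (R.pi v + y0) := by
    rw [zero_add]
    calc g • R.pi v + (R.pi v + y0) = g • R.pi v + y0 + R.pi v := by abel
      _ = R.pi v + y0 := h2
  exact add_right_cancel h3

/-- `r ∉ W_x` -/
theorem r_not_mem (h : OddN T V z n) (s : St V z n p q r v f R F g y0) (e : Et R g η) : r ∉ ws V (η * r * η⁻¹) := by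
  intro h1
  apply x_ne h s e
  rw [← fe_r h s e, ← mem_centralizer_iff.mp (fe_cent (η := η) h s) r h1, mul_inv_cancel_right]

/-- `D = W_r ∩ W_x = W_{xv} ∩ W_x` -/
theorem D_eq (h : OddN T V z n) (s : St V z n p q r v f R F g y0) (e : Et R g η) :
    ws V r ⊓ ws V (η * r * η⁻¹) = ws V ((η * r * η⁻¹) * v) ⊓ ws V (η * r * η⁻¹) := by
  have hfc := fe_cent (η := η) h s
  have hx : Pt z (η * r * η⁻¹) := (s.pt_r h).conj η
  have h1 : cj (η * f * η⁻¹) (ws V r ⊓ ws V (η * r * η⁻¹)) = ws V r ⊓ ws V (η * r * η⁻¹) := by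
    have key : ∀ c ∈ centralizer (ws V (η * r * η⁻¹) : Set G),
        cj c (ws V r ⊓ ws V (η * r * η⁻¹)) = ws V r ⊓ ws V (η * r * η⁻¹) := by
      intro c hc
      have h2 : ∀ d, d ∈ ws V (η * r * η⁻¹) → c⁻¹ * d * c = d := fun d hd => by
        rw [mul_assoc, mem_centralizer_iff.mp hc d hd]; group
      ext d
      rw [mem_cj]
      constructor
      · intro hd
        have h3 : d = c⁻¹ * d * c := by
          have h4 : c * (c⁻¹ * d * c) * c⁻¹ = d := by group
          have h5 := mem_centralizer_iff.mp hc _ hd.2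
          rw [← h5, mul_inv_cancel_right] at h4
          exact h4.symm
        rw [h3]; exact hd
      · intro hd
        rw [h2 d hd.2]; exact hd
    exact key _ hfc
  have h2 : cj (η * f * η⁻¹) (ws V (η * r * η⁻¹)) = ws V (η * r * η⁻¹) := by
    refine cj_ws_eq ?_
    exact (mem_centralizer_iff.mp hfc _ (self_mem_ws h.toGeoC hx)).symm
  rw [cj_inf, h2, cj_ws, fe_r h s e] at h1
  exact h1.symm

/-- `x ∉ C(W_q)` -/
theorem x_not_cent (h : OddN T V z n) (s : St V z n p q r v f R F g y0) (e : Et R g η) :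
    η * r * η⁻¹ ∉ centralizer (ws V q : Set G) := by
  intro h1
  have h2 := f_x h s e
  rw [mem_centralizer_iff.mp h1 f s.hf, mul_inv_cancel_right] at h2
  exact s.gp.ne (by simpa using h2)

/-- `D = C_{W_x}(f₁)` -/
theorem D_cent (h : OddN T V z n) (s : St V z n p q r v f R F g y0) (e : Et R g η) {f1 : G} (hf1 : f1 ∈ ws V q)
    (hf1n : f1 ∉ centralizer (ws V p : Set G)) :
    ws V (η * r * η⁻¹) ⊓ centralizer ({f1} : Set G) = ws V r ⊓ ws V (η * r * η⁻¹) := by
  apply le_antisymm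
  · intro w hw
    rw [D_eq h s e]
    refine ⟨?_, hw.1⟩
    have h1 := s.gp.mul _ (x_mem s e) f1 hf1 (x_not_cent h s e) hf1n
    have h2 : f1 * (η * r * η⁻¹) * f1⁻¹ = (η * r * η⁻¹) * v := by
      rw [← s.comm_p h s.gp.memp (x_mem s e)]
      calc f1 * (η * r * η⁻¹) * f1⁻¹ = ((η * r * η⁻¹) * f1 * (η * r * η⁻¹)⁻¹ * f1⁻¹)⁻¹ * (η * r * η⁻¹) := by group
        _ = v * (η * r * η⁻¹) := by rw [h1, s.inv_p h s.gp.memp]
    have h3 : f1 * w * f1⁻¹ ∈ ws V (f1 * (η * r * η⁻¹) * f1⁻¹) := by rw [← cj_ws]; exact conj_mem_cj hw.1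
    rw [h2, ← mem_centralizer_singleton_iff.mp hw.2, mul_inv_cancel_right] at h3
    exact h3
  · intro w hw
    exact ⟨hw.2, mem_centralizer_singleton_iff.mpr (mem_centralizer_iff.mp (s.comm_rq h hf1) w hw.1)⟩

/-! ### (Y2) -/

theorem y_two (h : OddN T V z n) (s : St V z n p q r v f R F g y0) (hy0 : y0 ≠ 0) : r * v ∉ ws V r := by
  haveI := s.finite_X
  haveI := s.finite_M
  intro hyr
  have hp := s.pt
  have hr := s.pt_r h
  have hpy := s.pi_y h
  have hyp := s.y_mem
  have hpp : p * p = 1 := Pt.sq h.toGeoC hp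
  have hrr : r * r = 1 := Pt.sq h.toGeoC hr
  have hp1 : p ≠ 1 := Pt.ne_one h.toGeoC hp
  have hr1 : r ≠ 1 := Pt.ne_one h.toGeoC hr
  have hpr : p ≠ r := s.hr.2.2.1
  set y := r * v with hy
  have hy1 : y ≠ 1 := by
    intro e
    rw [e, R.pi_one] at hpy
    exact hy0 hpy.symm
  have hyp' : y ≠ p := by
    intro e
    rw [e, Rep.pi_self h.toOdd hp R] at hpy
    exact hy0 hpy.symm
  have hyr' : y ≠ r := fun e => s.gp.ne (by simpa [hy] using e)
  have hypr : y ≠ p * r := by
    intro e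
    rw [s.comm_p h (s.p_mem h) s.r_mem, hy] at e
    exact s.gp.nep (mul_left_cancel e)
  obtain ⟨k, hky, hkp, hkr⟩ := swap_two h.toOdd s.hr hyp hyr hy1 hyp' hyr' hypr
  obtain ⟨k', hky', hkp', hkr'⟩ := swap_one h.toOdd s.hr hyp hyr hy1 hyp' hyr' hypr
  have hv : v = r * y := by rw [hy, ← mul_assoc, hrr, one_mul]
  have hyk : k * y * k⁻¹ = y := by rw [hky, mul_inv_cancel_right]
  have hyk' : k' * y * k'⁻¹ = y := by rw [hky', mul_inv_cancel_right]
  -- the pair `(r, q₁)`
  have cA := s.hc.conj k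
  have gA := GP.conj s.gp k
  have wA := s.hw.conj k
  have hkv : k * v * k⁻¹ = p * y := by
    rw [hv]
    calc k * (r * y) * k⁻¹ = (k * r * k⁻¹) * (k * y * k⁻¹) := by group
      _ = p * y := by rw [hkr, hyk]
  rw [hkp] at cA gA
  rw [hkr] at wA
  rw [hkv] at gA
  -- `t`
  obtain ⟨T', L, h', hrL, hL, hT⟩ := s.exists_T h
  obtain ⟨t, ht, hty⟩ : ∃ t ∈ T', t * y ≠ y * t := by
    by_contra hcon
    push Not at hcon
    rcases h'.soc y (h'.ws_le_T (by rw [hL]; exact hyp)) (s.sq_p h hyp) hcon with e | e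
    · exact hy1 e
    · exact hyp' e
  obtain ⟨htp, htr⟩ := hT t ht
  have htl := s.smul_r h htp htr
  have hty0 := (s.tv.smul_c s.amb htl).2
  have htpy : t * y * t⁻¹ = p * y := by
    refine ((Rep.pi_eq_pi h.toOdd hp R (R.conj_mem htp hyp) hyp).mp ?_).resolve_left fun e => hty
      (mul_inv_eq_iff_eq_mul.mp e)
    rw [← R.smul_pi t htp y hyp, hpy, hty0]
  have htpp : t * p * t⁻¹ = p := by rw [mem_centralizer_singleton_iff.mp htp, mul_inv_cancel_right]
  have cB := cA.conj t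
  have gB := GP.conj gA t
  have wB := wA.conj t
  have e1 : t * (p * y) * t⁻¹ = y := by
    calc t * (p * y) * t⁻¹ = (t * p * t⁻¹) * (t * y * t⁻¹) := by group
      _ = (p * p) * y := by rw [htpp, htpy, mul_assoc]
      _ = y := by rw [hpp, one_mul]
  rw [e1] at gB
  rw [htpp] at wB
  have hpy1 : y ≠ p * y := fun e => hp1 (by simpa using e.symm)
  rcases htr with e | e
  · rw [e] at cB gB
    rcases y_one h cA s.hr.symm wA gA cB s.hr.symm wB gB (Or.inl rfl) with e2 | e2
    · exact hpy1 e2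
    · have e3 : r * p = 1 := by
        rw [← mul_assoc] at e2
        simpa using e2.symm
      have e4 : p = r := by
        calc p = (r * r) * p := by rw [hrr, one_mul]
          _ = r * (r * p) := by group
          _ = r := by rw [e3, mul_one]
      exact hpr e4
  · rw [e] at cB gB
    have hcol : Col V (p * r) p := (col_mul h.toOdd s.hr).1.symm
    have cC := cA.conj k'
    have gC := GP.conj gA k'
    have wC := wA.conj k'
    have e5 : k' * (p * y) * k'⁻¹ = p * y := by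
      calc k' * (p * y) * k'⁻¹ = (k' * p * k'⁻¹) * (k' * y * k'⁻¹) := by group
        _ = p * y := by rw [hkp', hyk']
    rw [hkr'] at cC gC
    rw [e5] at gC
    rw [hkp'] at wC
    rcases y_one h cC hcol wC gC cB hcol wB gB (Or.inl rfl) with e2 | e2
    · exact hpy1 e2
    · have e3 : p * r * (p * y) = r * y := by
        calc p * r * (p * y) = (p * (r * p)) * y := by group
          _ = (p * (p * r)) * y := by rw [s.comm_p h s.r_mem (s.p_mem h)]
          _ = (p * p) * r * y := by group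
          _ = r * y := by rw [hpp, one_mul]
      rw [e3] at e2
      exact hr1 (by simpa using e2.symm)

/-! ### (E) -/

theorem gc_y (s : St V z n p q r v f R F g y0) (two : ∀ m : M, m + m = 0) (hy0 : y0 ≠ 0) :
    y0 ∉ sp two (R.pi v + y0) (g • R.pi v + y0) := by
  haveI := s.finite_X
  haveI := s.finite_M
  have tv := s.tv
  rintro (e | e | e | e)
  · exact hy0 e
  · exact tv.c0 (by simpa using e.symm)
  · exact tv.gc_ne_zero (by simpa using e.symm)
  · have e1 : y0 = R.pi v + g • R.pi v := by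
      calc y0 = R.pi v + y0 + (g • R.pi v + y0) := e
        _ = R.pi v + g • R.pi v + (y0 + y0) := by abel
        _ = R.pi v + g • R.pi v := by rw [two, add_zero]
    have e2 := tv.gy
    rw [e1, smul_add, tv.ggc two] at e2
    apply tv.gc_ne_zero
    have e3 : g • R.pi v + (R.pi v + g • R.pi v) = R.pi v := by
      calc g • R.pi v + (R.pi v + g • R.pi v) = R.pi v + (g • R.pi v + g • R.pi v) := by abel
        _ = R.pi v := by rw [two, add_zero]
    rw [e3] at e2
    simpa using e2.symm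

theorem x_fj (s : St V z n p q r v f R F g y0) (e : Et R g η) : η * r * η⁻¹ ∈ fj R g (R.pi v) y0 :=
  ⟨x_mem s e, fun k hk => by rw [pi_x s e, smul_add, hk.2.2.1, hk.2.2.2]⟩

/-- **(E)** -/
theorem ee (h : OddN T V z n) (s : St V z n p q r v f R F g y0) (e : Et R g η) (hy0 : y0 ≠ 0) :
    ¬ Nat.card (ws V (η * r * η⁻¹)) ≤ 4 * Nat.card ↥(ws V r ⊓ ws V (η * r * η⁻¹)) := by
  intro hle
  haveI := s.finite_X
  haveI := s.finite_M
  have hxm := x_mem s e
  have hfx := f_x h s e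
  have hpx := pi_x s e
  have hxj := x_fj s e
  have hcx := col_x s e
  have hD := D_eq h s e
  have hxW := x_not_cent h s e
  have hrn := r_not_mem h s e
  set x := η * r * η⁻¹ with hx
  set y := r * v with hy
  have hyj : y ∈ fj R g (R.pi v) y0 := mul_mem s.r_fj s.v_fj
  have two := s.two h
  set S := sp two (R.pi r) (R.pi x) with hS
  have hWf : pull R S ≤ fj R g (R.pi v) y0 := by
    rintro w ⟨hw, hwS⟩
    refine ⟨hw, fun k hk => ?_⟩
    have h1 := s.r_fj.2 k hk
    have h2 := hxj.2 k hk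
    rcases hwS with e1 | e1 | e1 | e1
    · rw [e1, smul_zero]
    · rw [e1, h1]
    · rw [e1, h2]
    · rw [e1, smul_add, h1, h2]
  have hyW : y ∉ pull R S := by
    rintro ⟨-, h1⟩
    rw [s.pi_y h, hS, s.tv.add, hpx] at h1
    exact gc_y s two hy0 h1
  obtain ⟨k, hk, hkW, hky⟩ := s.sign h hWf (self_mem_pull h.toOdd s.pt R S) hyj hyW
  have hkr : k * r * k⁻¹ = r := by
    rw [hkW r ⟨s.r_mem, Or.inr (Or.inl rfl)⟩, mul_inv_cancel_right]
  have hkx : k * x * k⁻¹ = x := by
    rw [hkW x ⟨hxm, Or.inr (Or.inr (Or.inl rfl))⟩, mul_inv_cancel_right]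
  have hrr : r * r = 1 := s.sq_p h s.r_mem
  have hv : v = r * y := by rw [hy, ← mul_assoc, hrr, one_mul]
  have hkv : k * (x * v) * k⁻¹ = p * (x * v) := by
    have hpx := s.comm_p h (s.p_mem h) hxm
    have hpr := s.comm_p h (s.p_mem h) s.r_mem
    calc k * (x * v) * k⁻¹ = (k * x * k⁻¹) * (k * r * k⁻¹) * (k * y * k⁻¹) := by rw [hv]; group
      _ = x * (r * p) * y := by rw [hkx, hkr, hky]; group
      _ = (x * p) * (r * y) := by rw [← hpr]; group
      _ = p * x * v := by rw [← hpx, ← hv]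
      _ = p * (x * v) := by group
  -- `D ≤ W_p`
  have hDk : ws V r ⊓ ws V x = ws V (p * (x * v)) ⊓ ws V x := by
    have h1 := congrArg (cj k) hD
    rw [cj_inf, cj_inf, cj_ws, cj_ws, cj_ws, hkr, hkx, hkv] at h1
    exact h1
  have hcol2 : Col V p (x * v) := by
    have h1 := hcx.conj f
    rwa [hfx, mem_centralizer_singleton_iff.mp (s.f_p h), mul_inv_cancel_right] at h1
  have hDp : ws V r ⊓ ws V x ≤ ws V p ⊓ ws V r := by
    intro d hd
    refine ⟨?_, hd.1⟩
    have h1 : d ∈ ws V (x * v) := by rw [hD] at hd; exact hd.1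
    have h2 : d ∈ ws V (p * (x * v)) := by rw [hDk] at hd; exact hd.1
    have h3 : d ∈ ws V p ⊓ ws V (x * v) := by
      rw [(inf_col h.toOdd hcol2).1]; exact ⟨h1, h2⟩
    exact h3.1
  have h1 := EO.Count.two_mul_card_le hDp (y := r) ⟨s.r_mem, self_mem_ws h.toGeoC (s.pt_r h)⟩ fun h2 => hrn h2.2
  set C := ws V p ⊓ centralizer ({f} : Set G) with hC
  have hIC : ws V p ⊓ ws V r ≤ C := fun w hw =>
    ⟨hw.1, mem_centralizer_singleton_iff.mpr (mem_centralizer_iff.mp (s.comm_rq h s.hf) w hw.2)⟩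
  have hxC : x ∉ C := by
    intro h2
    have h3 := mem_centralizer_singleton_iff.mp h2.2
    rw [← h3, mul_inv_cancel_right] at hfx
    exact s.gp.ne (by simpa using hfx)
  have h2 := EO.Count.two_mul_card_le (X := C) (Y := ws V p) inf_le_left hxm hxC
  have h3 : Nat.card (ws V p) = Nat.card (ws V x) := card_ws_eq s.pt (hcx.pt h.toGeoC)
  have h4 : Nat.card C ≤ Nat.card ↥(ws V p ⊓ ws V r) := by omega
  have h5 : ws V p ⊓ ws V r = C := Subgroup.eq_of_le_of_card_ge hIC h4
  have hyC : y ∈ C := ⟨s.y_mem, mem_centralizer_singleton_iff.mpr (s.fy h).symm⟩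
  rw [← h5] at hyC
  exact y_two h s hy0 hyC.2

/-! ### (4.2) -/

theorem smul_gc' [Finite M] [Finite X] {a : X} {l c y : M} {A : Subgroup X} (h : Amb M F A) (t : Tv F a g l c y)
    {k : X} (hk : k • c = c) : k • g • c = g • c ∨ k • g • c = g • g • c := by
  have h1 : k • g • c = (k * g * k⁻¹) • k • c := by
    rw [smul_smul, smul_smul]; congr 1; group
  rw [h1, hk]
  rcases t.conj_g h k with e | e
  · left; rw [e]
  · right; rw [e, mul_smul]

theorem card_le_two_mul {H K : Subgroup G} (hK : ∀ a ∈ H, ∀ b ∈ H, a ∉ K → b ∉ K → a * b ∈ K) :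
    Nat.card H ≤ 2 * Nat.card K := by
  by_cases h1 : ∃ a ∈ H, a ∉ K
  · exact EO.Fit.two_mul_le hK h1
  · push Not at h1
    have := card_le_of_le (H := H) (K := K) h1
    omega

end Cfsg.Agent.OddCyclic.EOJ.EE
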