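import Cfsg.Agent.OddCyclic.EO.TwoEight
import Cfsg.Agent.OddCyclic.EO.Two
import Cfsg.Agent.OddCyclic.EOJ.Alg

/-!
# The Fitting subgroup of `C(x)/K_x` at an arbitrary point; swaps

* `FT`, `exists_ft`, `FT.amb`: the situation of `EO/Sit` at the point `x`;
* `exists_lift`: lifting elements of prime power order;
* `cp`: `(CP*)`;
* `swap_two`, `swap_one`: (F2).
-/

set_option autoImplicit false
set_option linter.unusedSectionVars false
set_option linter.style.haveILetI false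

namespace Cfsg.Agent.OddCyclic.EOJ.Loc

open Subgroup Cfsg Cfsg.Agent.ZN Cfsg.Agent.MinSimple.Geo Cfsg.Agent.OddCyclic.GeoC Cfsg.Agent.OddCyclic.BTwoA
  Cfsg.Agent.OddCyclic.EO.Line Cfsg.Agent.OddCyclic.EO.Base Cfsg.Agent.OddCyclic.EO.RepM
  Cfsg.Agent.OddCyclic.EO.Fit Cfsg.Agent.OddCyclic.EO.FitB Cfsg.Agent.OddCyclic.EO.Sit Cfsg.Agent.MinSimple.SecRep
open Cfsg.Agent.ZN.Block (conj_mem_of_normalizer conj_mem_of_normalizer' le_normalizer_of_forall
  mem_normalizer_of)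

universe u

variable {G : Type u} [Group G]

/-! ### elements of odd order -/

/-- an element of odd order is a power of its square -/
theorem exists_sq_pow {g : G} (ho : _root_.Odd (orderOf g)) : ∃ n : ℕ, (g * g) ^ n = g := by
  obtain ⟨k, hk⟩ := ho
  refine ⟨k + 1, ?_⟩
  rw [← pow_two, ← pow_mul]
  have : 2 * (k + 1) = orderOf g + 1 := by omega
  rw [this, pow_succ, pow_orderOf_eq_one, one_mul]

/-- an element of odd order which fixes `v` modulo a central involution fixes `v` -/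
theorem comm_of_odd {y v x : G} (ho : _root_.Odd (orderOf y)) (hx : y * x = x * y)
    (h : y * v * y⁻¹ = v ∨ y * v * y⁻¹ = x * v) (hxx : x * x = 1) : y * v = v * y := by
  rcases h with h | h
  · exact mul_inv_eq_iff_eq_mul.mp h
  · obtain ⟨n, hn⟩ := exists_sq_pow ho
    have h1 : (y * y) * v = v * (y * y) := by
      have h2 : y * y * v * (y * y)⁻¹ = v := by
        calc y * y * v * (y * y)⁻¹ = y * (y * v * y⁻¹) * y⁻¹ := by group
          _ = (y * x) * v * y⁻¹ := by rw [h]; group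
          _ = x * (y * v * y⁻¹) := by rw [hx]; group
          _ = v := by rw [h, ← mul_assoc, hxx, one_mul]
      exact mul_inv_eq_iff_eq_mul.mp h2
    have h3 : Commute (y * y) v := h1
    have h4 := h3.pow_left n
    rw [hn] at h4
    exact h4

section cv

variable {M X : Type u} [AddCommGroup M] [Group X] [DistribMulAction X M]

/-- change of `W` -/
def cv {C W W' Z : Subgroup G} (e : W = W') (R : Sec C W Z M X) : Sec C W' Z M X where
  pi := R.pi
  rho := R.rho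
  W_le := e ▸ R.W_le
  W_norm := e ▸ R.W_norm
  pi_mul := e ▸ R.pi_mul
  pi_eq_zero := e ▸ R.pi_eq_zero
  pi_surj := e ▸ R.pi_surj
  rho_mul := R.rho_mul
  rho_surj := R.rho_surj
  smul_pi := e ▸ R.smul_pi
  faithful := R.faithful

end cv

variable [Finite G] {T V : Subgroup G} {z x : G} {M X : Type u} [AddCommGroup M] [Group X] [DistribMulAction X M]

/-- the Fitting subgroup of `C(x)/K_x` -/
structure FT (V : Subgroup G) (x : G) (R : Rep V x M X) (F : Subgroup X) : Prop where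
  norm : F.Normal
  cyc : IsCyclic F
  odd : _root_.Odd (Nat.card F)
  cent : centralizer (F : Set X) ≤ F
  orb : ∀ y, Col V x y → ∀ g : X, ∃ f ∈ F, g • R.pi y = f • R.pi y

theorem exists_ft (h : Odd T V z) (hx : Pt z x) (R : Rep V x M X) : ∃ F : Subgroup X, FT V x R F := by
  obtain ⟨k, hk, h'⟩ := exists_odd h hx
  obtain ⟨F, h1, h2, h3, h4, h5⟩ := exists_F h' (cv (ws_cj V k x).symm R)
  obtain ⟨y0, hy0, hy01, hy0x⟩ := h'.exists_y
  have hc0 : Col V x y0 := ⟨h'.z_ne, hy01, Ne.symm hy0x, _, ⟨⟨k, rfl⟩, h'.z_mem⟩, hy0⟩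
  refine ⟨F, h1, h2, h3, h4, fun y hy g => ?_⟩
  obtain ⟨g0, hg0⟩ := Rep.exists_smul_line h hx R hc0 hy
  have h6 : ∀ g : X, ∃ f ∈ F, g • R.pi y0 = f • R.pi y0 := h5 y0 hy0
  obtain ⟨f1, hf1, e1⟩ := h6 (g * g0)
  obtain ⟨f2, hf2, e2⟩ := h6 g0
  refine ⟨f1 * f2⁻¹, mul_mem hf1 (inv_mem hf2), ?_⟩
  rw [← hg0, ← mul_smul, e1, e2, mul_smul, inv_smul_smul]

namespace FT

variable {R : Rep V x M X} {F : Subgroup X}

/-- the standing situation for an elementary abelian subgroup fixing a line vector -/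
theorem amb (ft : FT V x R F) (h : Odd T V z) (hx : Pt z x) {y : G} (hy : Col V x y) {A : Subgroup X}
    (hab : ∀ a ∈ A, ∀ b ∈ A, a * b = b * a) (hsq : ∀ a ∈ A, a * a = 1) (hfix : ∀ a ∈ A, a • R.pi y = R.pi y) :
    Amb M F A ∧ Good F A (⊤ : AddSubgroup M) (R.pi y) := by
  refine ⟨⟨Rep.two h hx R, ft.cyc, ft.odd, ft.norm, hab, hsq⟩, ⟨AddSubgroup.mem_top _, hfix,
    fun _ _ _ _ => AddSubgroup.mem_top _, fun U hU => ?_⟩⟩
  refine (Rep.eq_top_of_line h hx R hy U fun g => ?_).ge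
  obtain ⟨f, hf, e⟩ := ft.orb y hy g
  rw [e]; exact hU f hf

/-- `Amb`, `Good` for a subgroup moving the line vector `l` to another one -/
theorem amb' (ft : FT V x R F) (h : Odd T V z) (hx : Pt z x) {y : G} (hy : Col V x y) {A : Subgroup X}
    (hab : ∀ a ∈ A, ∀ b ∈ A, a * b = b * a) (hsq : ∀ a ∈ A, a * a = 1) {f : X} (hf : f ∈ F)
    (hfix : ∀ a ∈ A, a • f • R.pi y = f • R.pi y) :
    Amb M F A ∧ Good F A (⊤ : AddSubgroup M) (f • R.pi y) := by
  refine ⟨⟨Rep.two h hx R, ft.cyc, ft.odd, ft.norm, hab, hsq⟩, ⟨AddSubgroup.mem_top _, hfix,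
    fun _ _ _ _ => AddSubgroup.mem_top _, fun U hU => ?_⟩⟩
  refine (Rep.eq_top_of_line h hx R hy U fun g => ?_).ge
  obtain ⟨f', hf', e⟩ := ft.orb y hy g
  rw [e]
  have := hU (f' * f⁻¹) (mul_mem hf' (inv_mem hf))
  rwa [smul_smul, inv_mul_cancel_right] at this

/-- a 2-subgroup fixes a line vector -/
theorem exists_fix (ft : FT V x R F) {y : G} (hy : Col V x y) {A : Subgroup X} (hA : IsPGroup 2 A) :
    ∃ f ∈ F, ∀ a ∈ A, a • f • R.pi y = f • R.pi y := by
  haveI : Finite M := R.finite_left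
  haveI : Finite X := R.finite_right
  haveI : Fact (Nat.Prime 2) := ⟨Nat.prime_two⟩
  set O := MulAction.orbit X (R.pi y) with hO
  let f0 : F → O := fun f => ⟨(f : X) • R.pi y, ⟨f, rfl⟩⟩
  have hodd : ¬ 2 ∣ Nat.card O := by
    have h1 : Nat.card O ∣ Nat.card F := by
      have h2 : Nat.card (MulAction.orbit F (R.pi y)) ∣ Nat.card F := by
        rw [Nat.card_congr (MulAction.orbitEquivQuotientStabilizer F (R.pi y))]
        exact Subgroup.card_quotient_dvd_card _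
      have h3 : (MulAction.orbit F (R.pi y)) = O := by
        ext m
        constructor
        · rintro ⟨f, rfl⟩
          exact ⟨f, rfl⟩
        · rintro ⟨g, rfl⟩
          obtain ⟨f, hf, e⟩ := ft.orb y hy g
          exact ⟨⟨f, hf⟩, e.symm⟩
      rw [h3] at h2
      exact h2
    intro h2
    have h3 := ft.odd.of_dvd_nat h1
    obtain ⟨k, hk⟩ := h3
    omega
  haveI : Finite O := inferInstance
  obtain ⟨o, ho⟩ := hA.nonempty_fixed_point_of_prime_not_dvd_card O hodd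
  obtain ⟨g, hg⟩ := o.2
  obtain ⟨f, hf, e⟩ := ft.orb y hy g
  refine ⟨f, hf, fun a ha => ?_⟩
  have h1 := congrArg Subtype.val (ho ⟨a, ha⟩)
  have h2 : a • (o : M) = o := h1
  have h3 : (o : M) = f • R.pi y := by rw [← e]; exact hg.symm
  rwa [h3] at h2

end FT

/-- lifting elements of odd prime power order -/
theorem exists_lift (R : Rep V x M X) {r j : ℕ} (hr : r.Prime) (hr2 : r ≠ 2) {g : X} (hg : orderOf g = r ^ j) :
    ∃ c ∈ centralizer ({x} : Set G), R.rho c = g ∧ _root_.Odd (orderOf c) := by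
  obtain ⟨c, hc, e, k, hk⟩ := R.exists_lift hr (g := g) (k := j) (by rw [← hg]; exact pow_orderOf_eq_one g)
  refine ⟨c, hc, e, ?_⟩
  have h1 : orderOf c ∣ r ^ k := orderOf_dvd_of_pow_eq_one hk
  exact ((hr.odd_of_ne_two hr2).pow).of_dvd_nat h1

/-- an element of odd order fixing `π(w)` commutes with `w` -/
theorem comm_of_smul (h : Odd T V z) (hx : Pt z x) (R : Rep V x M X) {c w : G}
    (hc : c ∈ centralizer ({x} : Set G)) (ho : _root_.Odd (orderOf c)) (hw : w ∈ ws V x)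
    (e : R.rho c • R.pi w = R.pi w) : c * w = w * c := by
  rw [R.smul_pi c hc w hw] at e
  exact comm_of_odd ho (mem_centralizer_singleton_iff.mp hc) ((Rep.pi_eq_pi h hx R (R.conj_mem hc hw) hw).mp e)
    (Pt.sq h.toGeoC hx)

theorem smul_of_comm (R : Rep V x M X) {c w : G} (hc : c ∈ centralizer ({x} : Set G)) (hw : w ∈ ws V x)
    (e : c * w = w * c) : R.rho c • R.pi w = R.pi w := by
  rw [R.smul_pi c hc w hw, e, mul_inv_cancel_right]

/-- `(CP*)` -/
theorem cp {p q : G} (R : Rep V q M X) {U : Subgroup G} (hUq : U ≤ centralizer ({q} : Set G))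
    (hU2 : ∀ u ∈ U, u * u = 1) (hn : ∀ c : G, c * p = p * c → c * q = q * c → ∀ u ∈ U, c * u * c⁻¹ ∈ U) {u c : G}
    (hu : u ∈ U) (hc : c ∈ centralizer ({q} : Set G)) (ho : _root_.Odd (orderOf c))
    (hi : R.rho u * R.rho c * (R.rho u)⁻¹ = (R.rho c)⁻¹) (h1 : R.rho c ≠ 1) : c * p ≠ p * c := by
  intro hcp
  apply h1
  have h2 : c * u * c⁻¹ * u⁻¹ ∈ U := mul_mem (hn c hcp (mem_centralizer_singleton_iff.mp hc) u hu) (inv_mem hu)
  have h3 := hU2 _ h2
  have h4 : R.rho (c * u * c⁻¹ * u⁻¹) = R.rho c * R.rho c := by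
    rw [R.rho_mul _ (mul_mem (mul_mem hc (hUq hu)) (inv_mem hc)) _ (inv_mem (hUq hu)),
      R.rho_mul _ (mul_mem hc (hUq hu)) _ (inv_mem hc), R.rho_mul _ hc _ (hUq hu), R.rho_inv hc, R.rho_inv (hUq hu)]
    have h5 : R.rho u * (R.rho c)⁻¹ * (R.rho u)⁻¹ = R.rho c := by
      calc R.rho u * (R.rho c)⁻¹ * (R.rho u)⁻¹ = (R.rho u * R.rho c * (R.rho u)⁻¹)⁻¹ := by group
        _ = R.rho c := by rw [hi, inv_inv]
    calc R.rho c * R.rho u * (R.rho c)⁻¹ * (R.rho u)⁻¹ = R.rho c * (R.rho u * (R.rho c)⁻¹ * (R.rho u)⁻¹) := by group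
      _ = R.rho c * R.rho c := by rw [h5]
  have h5 : (R.rho c * R.rho c) * (R.rho c * R.rho c) = 1 := by
    rw [← h4, ← R.rho_mul _ (hUq h2) _ (hUq h2), h3, R.rho_one]
  have ho' : _root_.Odd (orderOf (R.rho c)) := by
    refine ho.of_dvd_nat (orderOf_dvd_of_pow_eq_one ?_)
    rw [← R.rho_pow hc, pow_orderOf_eq_one, R.rho_one]
  have h6 : orderOf (R.rho c) ∣ 2 ^ 2 := by
    refine orderOf_dvd_of_pow_eq_one ?_
    rw [← h5]
    simp only [pow_succ, pow_zero, one_mul, mul_assoc]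
    norm_num [pow_succ, mul_assoc]
  have h7 : Nat.Coprime (orderOf (R.rho c)) (2 ^ 2) := Nat.Coprime.pow_right 2 (Nat.coprime_two_right.mpr ho')
  exact orderOf_eq_one_iff.mp (Nat.Coprime.eq_one_of_dvd h7 h6)

/-! ### (F2) -/

/-- two collinear points are exchanged by an element commuting with a given element outside the line -/
theorem swap_two (h : Odd T V z) {s q t : G} (hc : Col V s q) (hs : t ∈ ws V s) (hq : t ∈ ws V q) (h1 : t ≠ 1)
    (h2 : t ≠ s) (h3 : t ≠ q) (h4 : t ≠ s * q) : ∃ k : G, k * t = t * k ∧ k * s * k⁻¹ = q ∧ k * q * k⁻¹ = s := by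
  obtain ⟨g, hg, hqg, h'⟩ := exists_odd_col h hc
  have hinf := h'.inf_eq_dd h'.z_mem h'.z_ne hqg hc.2.1 hc.2.2.1
  rw [ws_cj, ws_cj] at hinf
  have ht : t ∈ dd (cj g V) := by rw [← hinf]; exact ⟨hs, hq⟩
  have hsq : s * q ≠ 1 := fun e => hc.2.2.1 (by
    have := mul_eq_one_iff_eq_inv.mp e
    rwa [h'.inv_eq hqg] at this)
  have htV : t ∉ cj g V := by
    intro htV
    rcases h'.four h'.z_mem hqg h'.z_ne hc.2.1 hc.2.2.1 htV with e | e | e | e
    · exact h1 e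
    · exact h2 e
    · exact h3 e
    · exact h4 e
  obtain ⟨k, -, hkt, hkm⟩ := h'.exists_swap_comm ht htV (mul_mem h'.z_mem hqg) hsq
  refine ⟨k, hkt, ?_, ?_⟩
  · rw [hkm s h'.z_mem h'.z_ne (fun e => hc.2.1 (by simpa using e.symm)), h'.comm h'.z_mem hqg, mul_assoc,
      h'.zz, mul_one]
  · rw [hkm q hqg hc.2.1 (fun e => h'.z_ne (by simpa using e.symm)), mul_assoc, h'.sq q hqg, mul_one]

theorem swap_one (h : Odd T V z) {s q t : G} (hc : Col V s q) (hs : t ∈ ws V s) (hq : t ∈ ws V q) (h1 : t ≠ 1)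
    (h2 : t ≠ s) (h3 : t ≠ q) (h4 : t ≠ s * q) : ∃ k : G, k * t = t * k ∧ k * s * k⁻¹ = s ∧ k * q * k⁻¹ = s * q := by
  obtain ⟨g, hg, hqg, h'⟩ := exists_odd_col h hc
  have hinf := h'.inf_eq_dd h'.z_mem h'.z_ne hqg hc.2.1 hc.2.2.1
  rw [ws_cj, ws_cj] at hinf
  have ht : t ∈ dd (cj g V) := by rw [← hinf]; exact ⟨hs, hq⟩
  have htV : t ∉ cj g V := by
    intro htV
    rcases h'.four h'.z_mem hqg h'.z_ne hc.2.1 hc.2.2.1 htV with e | e | e | e
    · exact h1 e
    · exact h2 e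
    · exact h3 e
    · exact h4 e
  obtain ⟨k, hk, hkt, hkm⟩ := h'.exists_swap_comm ht htV h'.z_mem h'.z_ne
  exact ⟨k, hkt, h'.kq_conj hk, hkm q hqg hc.2.1 (Ne.symm hc.2.2.1)⟩

theorem col_mul (h : Odd T V z) {s q : G} (hc : Col V s q) : Col V s (s * q) ∧ Col V q (s * q) := by
  obtain ⟨g, hg, hqg, h'⟩ := exists_odd_col h hc
  have hsq : s * q ≠ 1 := fun e => hc.2.2.1 (by
    have := mul_eq_one_iff_eq_inv.mp e
    rwa [h'.inv_eq hqg] at this)
  exact ⟨⟨hc.1, hsq, fun e => hc.2.1 (by simpa using e.symm), cj g V, ⟨⟨g, rfl⟩, h'.z_mem⟩, mul_mem h'.z_mem hqg⟩,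
    ⟨hc.2.1, hsq, fun e => hc.1 (by simpa using e.symm), cj g V, ⟨⟨g, rfl⟩, hqg⟩, mul_mem h'.z_mem hqg⟩⟩

end Cfsg.Agent.OddCyclic.EOJ.Loc
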