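import Cfsg.Agent.OddCyclic.EOJ.Loc

/-!
# Critical pairs, `n ≥ 2`

* `star`: `p ∈ W_q` implies `p ∉ W_s`, `s` the last but one point;
* `r_zero`: (R0);
* `GP`: good pairs, `gp_of`: (R2).
-/

set_option autoImplicit false
set_option linter.unusedSectionVars false
set_option linter.style.haveILetI false

namespace Cfsg.Agent.OddCyclic.EOJ.Pair

open Subgroup Cfsg Cfsg.Agent.ZN Cfsg.Agent.MinSimple.Geo Cfsg.Agent.OddCyclic.GeoC Cfsg.Agent.OddCyclic.BTwoA
  Cfsg.Agent.OddCyclic.EO.Line Cfsg.Agent.OddCyclic.EO.Base Cfsg.Agent.OddCyclic.EO.RepM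
  Cfsg.Agent.OddCyclic.EO.Fit Cfsg.Agent.OddCyclic.EO.FitB Cfsg.Agent.OddCyclic.EO.Sit Cfsg.Agent.MinSimple.SecRep
  Cfsg.Agent.OddCyclic.EO.Two Cfsg.Agent.OddCyclic.EOJ.Loc Cfsg.Agent.OddCyclic.EOJ.Alg
open Cfsg.Agent.ZN.Block (conj_mem_of_normalizer conj_mem_of_normalizer' le_normalizer_of_forall
  mem_normalizer_of)

universe u

variable {G : Type u} [Group G]

/-- `C_{W_p}(W_q)` -/
def cw (V : Subgroup G) (p q : G) : Subgroup G := ws V p ⊓ centralizer (ws V q : Set G)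

theorem cw_le (V : Subgroup G) (p q : G) : cw V p q ≤ ws V p := inf_le_left

variable [Finite G] {T V : Subgroup G} {z : G} {M X : Type u} [AddCommGroup M] [Group X] [DistribMulAction X M]
  {n : ℕ} {p q s : G}

/-- the last step of a critical path -/
theorem exists_last (h : OddN T V z n) (hc : Crit V z n p q) : ∃ s, Col V q s ∧ Walk V (n - 1) p s := by
  obtain ⟨s, h1, h2⟩ := (hc.symm h.toOdd).head h
  exact ⟨s, h1, h2.symm⟩

/-- **(STAR)** -/
theorem star (h : OddN T V z n) (hn : 2 ≤ n) (hc : Crit V z n p q) (hs : Col V q s) (hw : Walk V (n - 1) p s)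
    (hp : p ∈ ws V q) : p ∉ ws V s := by
  intro hps
  obtain ⟨k, hkp, hks, hkq⟩ := swap_two h.toOdd hs.symm hps hp (Pt.ne_one h.toGeoC hc.pt)
    (fun e => hc.not_walk h (m := 1) (by omega) (by rw [e]; exact hs.symm.walk))
    (fun e => hc.not_walk h (m := 0) (by omega) e)
    (fun e => hc.not_walk h (m := 1) (by omega) (by
      rw [e]; exact (col_mul h.toOdd hs.symm).2.symm.walk))
  have h1 := hc.conj k
  rw [hkp, mul_inv_cancel_right, hkq] at h1
  exact h1.not_walk h (m := n - 1) (by omega) hw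

/-! ### the action of `W_p` on `M_q` -/

theorem img_ab (R : Rep V q M X) {U : Subgroup G} (hU : U ≤ centralizer ({q} : Set G))
    (hab : ∀ a ∈ U, ∀ b ∈ U, a * b = b * a) : ∀ a ∈ R.img U, ∀ b ∈ R.img U, a * b = b * a := by
  intro a ha b hb
  obtain ⟨a, ha', rfl⟩ := (R.mem_img hU).mp ha
  obtain ⟨b, hb', rfl⟩ := (R.mem_img hU).mp hb
  rw [← R.rho_mul a (hU ha') b (hU hb'), ← R.rho_mul b (hU hb') a (hU ha'), hab a ha' b hb']

theorem img_sq (R : Rep V q M X) {U : Subgroup G} (hU : U ≤ centralizer ({q} : Set G))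
    (hsq : ∀ a ∈ U, a * a = 1) : ∀ a ∈ R.img U, a * a = 1 := by
  intro a ha
  obtain ⟨a, ha', rfl⟩ := (R.mem_img hU).mp ha
  rw [← R.rho_mul a (hU ha') a (hU ha'), hsq a ha', R.rho_one]

theorem img_fix (R : Rep V q M X) {U : Subgroup G} (hU : U ≤ centralizer ({q} : Set G)) {w : G} (hw : w ∈ ws V q)
    (hcm : ∀ a ∈ U, a * w = w * a) : ∀ a ∈ R.img U, a • R.pi w = R.pi w := by
  intro a ha
  obtain ⟨a, ha', rfl⟩ := (R.mem_img hU).mp ha
  exact smul_of_comm R (hU ha') hw (hcm a ha')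

theorem smul_sub_pi (R : Rep V q M X) {u w : G} (hu : u ∈ centralizer ({q} : Set G)) (hw : w ∈ ws V q) :
    R.rho u • R.pi w - R.pi w = R.pi (u * w * u⁻¹ * w⁻¹) := by
  rw [R.smul_pi u hu w hw, R.pi_mul _ (R.conj_mem hu hw) _ (inv_mem hw), R.pi_inv hw, sub_eq_add_neg]

theorem img_quad (R : Rep V q M X) {U : Subgroup G} (hU : U ≤ centralizer ({q} : Set G))
    (hcm : ∀ u ∈ U, ∀ u' ∈ U, ∀ w ∈ ws V q, u * (u' * w * u'⁻¹ * w⁻¹) = (u' * w * u'⁻¹ * w⁻¹) * u) :
    ∀ a ∈ R.img U, ∀ b ∈ R.img U, ∀ m : M, a • (b • m - m) = b • m - m := by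
  intro a ha b hb m
  obtain ⟨a, ha', rfl⟩ := (R.mem_img hU).mp ha
  obtain ⟨b, hb', rfl⟩ := (R.mem_img hU).mp hb
  obtain ⟨w, hw, rfl⟩ := R.pi_surj m
  rw [smul_sub_pi R (hU hb') hw]
  exact smul_of_comm R (hU ha') (mul_mem (R.conj_mem (hU hb') hw) (inv_mem hw)) (hcm a ha' b hb' w hw)

/-- `W_p` acts quadratically on `W_q` -/
theorem comm_comm (h : OddN T V z n) (hc : Crit V z n p q) : ∀ u ∈ ws V p, ∀ u' ∈ ws V p, ∀ w ∈ ws V q,
    u * (u' * w * u'⁻¹ * w⁻¹) = (u' * w * u'⁻¹ * w⁻¹) * u := fun _ hu _ hu' _ hw =>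
  ws_comm h.toOdd hc.pt hu (hc.comm_mem h hu' hw).1

theorem ws_le_q (h : OddN T V z n) (hc : Crit V z n p q) : ws V p ≤ centralizer ({q} : Set G) :=
  (hc.symm h.toOdd).ws_le_centralizer h

theorem ws_comm_last (h : OddN T V z n) (hs : Col V q s) (hw : Walk V (n - 1) p s) :
    ∀ a ∈ ws V p, a * s = s * a := by
  intro a ha
  have h1 := comm_of_walk h (hs.pt h.toGeoC) (Nat.sub_lt h.pos Nat.one_pos) hw.symm ha
  exact (mem_centralizer_iff.mp h1 s (self_mem_ws h.toGeoC (hs.pt h.toGeoC))).symm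

theorem kq_cases (h : Odd T V z) (hp : Pt z p) {b w : G} (hb : b ∈ kq V p) (hw : w ∈ ws V p) :
    b * w = w * b ∨ b * w * b⁻¹ * w⁻¹ = p := by
  rcases (mem_zpowers_iff_of_mul_self (Pt.sq h.toGeoC hp)).mp ((mem_kq'.mp hb).2.1 w hw) with e | e
  · left
    calc b * w = (b * w * b⁻¹ * w⁻¹) * (w * b) := by group
      _ = w * b := by rw [e, one_mul]
  · exact Or.inr e

/-- `(CP*)` for `W_p` in the module -/
theorem cp_ws (h : OddN T V z n) (hc : Crit V z n p q) (R : Rep V q M X) (hpq : p ∈ ws V q) {U : Subgroup G}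
    (hUq : U ≤ centralizer ({q} : Set G)) (hU2 : ∀ u ∈ U, u * u = 1)
    (hn : ∀ c : G, c * p = p * c → c * q = q * c → ∀ u ∈ U, c * u * c⁻¹ ∈ U) {F : Subgroup X} (ft : FT V q R F)
    {u g : X} (hu : u ∈ R.img U) (hg : g ∈ F) {r j : ℕ} (hr : r.Prime) (ho : orderOf g = r ^ j) (hg1 : g ≠ 1)
    (hi : u * g * u⁻¹ = g⁻¹) : g • R.pi p ≠ R.pi p := by
  haveI : Finite X := R.finite_right
  have hq : Pt z q := hc.pt' h.toGeoC
  have hr2 := prime_ne_two (odd_of_mem ft.odd hg) ho hg1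
  obtain ⟨c, hcq, rfl, hco⟩ := exists_lift R hr hr2 ho
  obtain ⟨u, hu', rfl⟩ := (R.mem_img hUq).mp hu
  intro e
  exact cp R hUq hU2 hn hu' hcq hco hi hg1 (comm_of_smul h.toOdd hq R hcq hco hpq e)

/-- **(R0)** -/
theorem r_zero (h : OddN T V z n) (hc : Crit V z n p q) {b : G} (hb : b ∈ ws V q) (hbk : b ∈ kq V p)
    (hbn : b ∉ centralizer (ws V p : Set G)) : p ∈ ws V q ∧ ∀ u ∈ ws V p, u * b = b * u → u ∈ kq V q := by
  have hp : Pt z p := hc.pt
  have hq : Pt z q := hc.pt' h.toGeoC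
  obtain ⟨w, hw, hwb⟩ : ∃ w ∈ ws V p, b * w ≠ w * b := by
    by_contra hcon
    push Not at hcon
    exact hbn (mem_centralizer_iff.mpr fun w hw => (hcon w hw).symm)
  have e := (kq_cases h.toOdd hp hbk hw).resolve_left hwb
  have hWq := ws_le_q h hc
  have hnorm : ws V p ≤ normalizer ((ws V q : Subgroup G) : Set G) := (hc.symm h.toOdd).ws_le_normalizer h
  have hpq : p ∈ ws V q := by
    rw [← e]
    have h1 := conj_mem_of_normalizer hnorm hw (inv_mem hb)
    have h2 := mul_mem hb h1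
    have e2 : b * (w * b⁻¹ * w⁻¹) = b * w * b⁻¹ * w⁻¹ := by group
    rwa [e2] at h2
  refine ⟨hpq, fun u hu hub => ?_⟩
  obtain ⟨M, X, _, _, _, ⟨R⟩⟩ := exists_rep h.toOdd hq
  haveI : Finite M := R.finite_left
  haveI : Finite X := R.finite_right
  obtain ⟨F, ft⟩ := exists_ft h.toOdd hq R
  obtain ⟨s, hs, hws⟩ := exists_last h hc
  obtain ⟨hamb, hgood⟩ := ft.amb h.toOdd hq hs (A := R.img (ws V p))
    (img_ab R hWq fun a ha b hb => ws_comm h.toOdd hp ha hb) (img_sq R hWq fun a ha => ws_sq h.toOdd hp ha)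
    (img_fix R hWq hs.mem_ws (ws_comm_last h hs hws))
  have hquad := img_quad R hWq (comm_comm h hc)
  have hpp : p * p = 1 := Pt.sq h.toGeoC hp
  have e3 : R.rho w • R.pi b - R.pi b = R.pi p := by
    rw [smul_sub_pi R (hWq hw) hb]
    congr 1
    calc w * b * w⁻¹ * b⁻¹ = (b * w * b⁻¹ * w⁻¹)⁻¹ := by group
      _ = p := by rw [e]; exact inv_eq_of_mul_eq_one_left hpp
  rw [← Rep.rho_eq_one R (hWq hu)]
  refine eq_one_of_fix hamb hgood R.faithful hquad (a := R.rho w) (R.rho_mem_img hWq hw) (R.rho_mem_img hWq hu)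
    (e := R.pi b) ?_ (smul_of_comm R (hWq hu) hb hub)
  intro g hg r j hr ho hg1 hi
  rw [e3]
  exact cp_ws h hc R hpq hWq (fun u hu => ws_sq h.toOdd hp hu) (fun c hcp _ u hu => by
    have h1 := conj_mem_cj (g := c) hu
    rwa [cj_ws_eq hcp] at h1) ft (R.rho_mem_img hWq hu) hg hr ho hg1 hi

/-! ### (R2) -/

/-- good pairs -/
structure GP (V : Subgroup G) (p q v : G) : Prop where
  ne : v ≠ 1
  nep : v ≠ p
  neq : v ≠ q
  memp : v ∈ ws V p
  memq : v ∈ ws V q
  cp : Nat.card (ws V p) = 2 * Nat.card (cw V p q)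
  cq : Nat.card (ws V q) = 2 * Nat.card (cw V q p)
  mul : ∀ a ∈ ws V p, ∀ b ∈ ws V q, a ∉ centralizer (ws V q : Set G) → b ∉ centralizer (ws V p : Set G) →
    a * b * a⁻¹ * b⁻¹ = v

theorem GP.comm {v : G} (g : GP V p q v) {a b : G} (ha : a ∈ ws V p) (hb : b ∈ ws V q) :
    a * b * a⁻¹ * b⁻¹ = 1 ∨ a * b * a⁻¹ * b⁻¹ = v := by
  by_cases h1 : a ∈ centralizer (ws V q : Set G)
  · left
    rw [← mem_centralizer_iff.mp h1 b hb]; group
  · by_cases h2 : b ∈ centralizer (ws V p : Set G)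
    · left
      rw [mem_centralizer_iff.mp h2 a ha]; group
    · exact Or.inr (g.mul a ha b hb h1 h2)

theorem cw_le_kq (hpq : ws V p ≤ centralizer ({q} : Set G)) : cw V p q ≤ kq V q := by
  intro c hc
  refine mem_kq'.mpr ⟨hpq hc.1, fun w hw => ?_, fun w hw => ?_⟩
  · have h1 := mem_centralizer_iff.mp hc.2 w hw
    rw [← h1, mul_inv_cancel_right, mul_inv_cancel]; exact one_mem _
  · have h1 := mem_centralizer_iff.mp hc.2 w hw
    have e : c⁻¹ * w * c * w⁻¹ = 1 := by rw [mul_assoc c⁻¹, h1]; group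
    rw [e]; exact one_mem _

/-- counting step -/
theorem half (h : OddN T V z n) (hc : Crit V z n p q) (h1 : ws V p ⊓ kq V q ≤ centralizer (ws V q : Set G))
    (hle : Nat.card (ws V q) * Nat.card (cw V p q) ≤ Nat.card (cw V q p) * Nat.card (ws V p)) :
    Nat.card (ws V p) ≤ 2 * Nat.card (cw V p q) := by
  have hp : Pt z p := hc.pt
  have hq : Pt z q := hc.pt' h.toGeoC
  have hWq := ws_le_q h hc
  obtain ⟨M, X, _, _, _, ⟨R⟩⟩ := exists_rep h.toOdd hq
  haveI : Finite M := R.finite_left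
  haveI : Finite X := R.finite_right
  obtain ⟨F, ft⟩ := exists_ft h.toOdd hq R
  obtain ⟨s, hs, hws⟩ := exists_last h hc
  obtain ⟨hamb, hgood⟩ := ft.amb h.toOdd hq hs (A := R.img (ws V p))
    (img_ab R hWq fun a ha b hb => ws_comm h.toOdd hp ha hb) (img_sq R hWq fun a ha => ws_sq h.toOdd hp ha)
    (img_fix R hWq hs.mem_ws (ws_comm_last h hs hws))
  set A := R.img (ws V p) with hA
  have hcA := card_img R hWq
  have e1 : ws V p ⊓ kq V q = cw V p q :=
    le_antisymm (le_inf inf_le_left h1) (le_inf (cw_le V p q) (cw_le_kq hWq))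
  rw [e1, ← hA] at hcA
  have hM := card_M h.toOdd hq R
  have hqC : q ∈ cw V q p := ⟨self_mem_ws h.toGeoC hq, mem_centralizer_iff.mpr fun w hw =>
    mem_centralizer_singleton_iff.mp (hWq hw)⟩
  have hE := card_push h.toOdd hq R (cw_le V q p) hqC
  have hEfx : push R (cw V q p) (cw_le V q p) ≤ fx A (⊤ : AddSubgroup M) := by
    rintro _ ⟨d, hd, rfl⟩
    exact ⟨AddSubgroup.mem_top _, img_fix R hWq (cw_le V q p hd) fun a ha => (mem_centralizer_iff.mp hd.2 a ha)⟩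
  have hEc := card_mono hEfx
  have hpos : 0 < Nat.card (cw V p q) := Nat.card_pos
  have hMA : Nat.card M ≤ Nat.card (fx A (⊤ : AddSubgroup M)) * Nat.card A := by
    refine le_trans ?_ (Nat.mul_le_mul_right _ hEc)
    refine Nat.le_of_mul_le_mul_right ?_ (Nat.mul_pos Nat.two_pos hpos)
    calc Nat.card M * (2 * Nat.card (cw V p q)) = Nat.card (ws V q) * Nat.card (cw V p q) := by rw [hM]; ring
      _ ≤ Nat.card (cw V q p) * Nat.card (ws V p) := hle
      _ = _ := by rw [hE, hcA]; ring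
  have h2 := (ff_main hamb hgood ft.cent R.faithful hMA).1
  have hcard : Nat.card A ≤ 2 := by
    by_cases hex : ∃ b ∈ A, b ≠ 1
    · obtain ⟨b, hb, hb1⟩ := hex
      have : (A : Set X) ⊆ {1, b} := by
        intro a ha
        by_cases ha1 : a = 1
        · exact Or.inl ha1
        · exact Or.inr (h2 a ha b hb ha1 hb1)
      refine (Set.ncard_le_ncard this (Set.toFinite _)).trans ((Set.ncard_insert_le _ _).trans ?_)
      rw [Set.ncard_singleton]
    · push Not at hex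
      have : A = ⊥ := by rw [eq_bot_iff]; intro b hb; rw [mem_bot]; exact hex b hb
      rw [this, Subgroup.card_bot]; omega
  rw [hcA]
  exact Nat.mul_le_mul_right _ hcard

theorem mul_mem_of_card {C W : Subgroup G} (hCW : C ≤ W) (hcard : Nat.card W = 2 * Nat.card C) {a b : G} (ha : a ∈ W)
    (hb : b ∈ W) (haC : a ∉ C) (hbC : b ∉ C) : a * b ∈ C := by
  have h1 : (C.subgroupOf W).index = 2 := by
    have h2 : C.relIndex W * Nat.card C = Nat.card W := by
      have h3 := Subgroup.card_mul_index (C.subgroupOf W)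
      rw [Nat.card_congr (Subgroup.subgroupOfEquivOfLe hCW).toEquiv] at h3
      rw [Subgroup.relIndex, mul_comm]; exact h3
    have hpos : 0 < Nat.card C := Nat.card_pos
    have h3 : C.relIndex W * Nat.card C = 2 * Nat.card C := by rw [h2, hcard]
    exact Nat.eq_of_mul_eq_mul_right hpos h3
  have h2 := Subgroup.mul_mem_iff_of_index_two h1 (a := ⟨a, ha⟩) (b := ⟨b, hb⟩)
  rw [mem_subgroupOf, mem_subgroupOf, mem_subgroupOf] at h2
  exact h2.mpr ⟨fun h3 => absurd h3 haC, fun h3 => absurd h3 hbC⟩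

theorem exists_not_mem (hc : Crit V z n p q) : ∃ a ∈ ws V p, a ∉ centralizer (ws V q : Set G) := by
  obtain ⟨-, -, a, ha, b, hb, hab⟩ := hc
  exact ⟨a, ha, fun h1 => hab (mem_centralizer_iff.mp h1 b hb).symm⟩

theorem two_le (hc : Crit V z n p q) : 2 * Nat.card (cw V p q) ≤ Nat.card (ws V p) := by
  obtain ⟨a, ha, han⟩ := exists_not_mem hc
  exact EO.Count.two_mul_card_le (cw_le V p q) ha fun h1 => han h1.2

/-- **(R2)** -/
theorem gp_of (h : OddN T V z n) (hc : Crit V z n p q) (h1 : ws V p ⊓ kq V q ≤ centralizer (ws V q : Set G))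
    (h2 : ws V q ⊓ kq V p ≤ centralizer (ws V p : Set G)) : ∃ v, GP V p q v := by
  have hp : Pt z p := hc.pt
  have hq : Pt z q := hc.pt' h.toGeoC
  have hc' := hc.symm h.toOdd
  have hpos : 0 < Nat.card (cw V p q) := Nat.card_pos
  have hpos' : 0 < Nat.card (cw V q p) := Nat.card_pos
  have hcards : Nat.card (ws V p) ≤ 2 * Nat.card (cw V p q) ∧ Nat.card (ws V q) ≤ 2 * Nat.card (cw V q p) := by
    rcases le_total (Nat.card (ws V q) * Nat.card (cw V p q)) (Nat.card (cw V q p) * Nat.card (ws V p)) with hle | hle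
    · have e1 := half h hc h1 hle
      refine ⟨e1, ?_⟩
      refine Nat.le_of_mul_le_mul_right ?_ hpos
      calc Nat.card (ws V q) * Nat.card (cw V p q) ≤ Nat.card (cw V q p) * Nat.card (ws V p) := hle
        _ ≤ Nat.card (cw V q p) * (2 * Nat.card (cw V p q)) := Nat.mul_le_mul_left _ e1
        _ = 2 * Nat.card (cw V q p) * Nat.card (cw V p q) := by ring
    · have hle' : Nat.card (ws V p) * Nat.card (cw V q p) ≤ Nat.card (cw V p q) * Nat.card (ws V q) := by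
        rw [mul_comm, mul_comm (Nat.card (cw V p q))]; exact hle
      have e1 := half h hc' h2 hle'
      refine ⟨?_, e1⟩
      refine Nat.le_of_mul_le_mul_right ?_ hpos'
      calc Nat.card (ws V p) * Nat.card (cw V q p) ≤ Nat.card (cw V p q) * Nat.card (ws V q) := hle'
        _ ≤ Nat.card (cw V p q) * (2 * Nat.card (cw V q p)) := Nat.mul_le_mul_left _ e1
        _ = 2 * Nat.card (cw V p q) * Nat.card (cw V q p) := by ring
  have hcp : Nat.card (ws V p) = 2 * Nat.card (cw V p q) := le_antisymm hcards.1 (two_le hc)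
  have hcq : Nat.card (ws V q) = 2 * Nat.card (cw V q p) := le_antisymm hcards.2 (two_le hc')
  obtain ⟨a0, ha0, ha0n⟩ := exists_not_mem hc
  obtain ⟨b0, hb0, hb0n⟩ := exists_not_mem hc'
  have hWq := ws_le_q h hc
  have hWp := ws_le_q h hc'
  have hpin : ∀ {x}, x ∈ ws V p → x⁻¹ = x := fun hx => ws_inv h.toOdd hp hx
  have hqin : ∀ {x}, x ∈ ws V q → x⁻¹ = x := fun hx => ws_inv h.toOdd hq hx
  have haa : ∀ {a a' b}, a ∈ ws V p → a' ∈ ws V p → b ∈ ws V q → a ∉ centralizer (ws V q : Set G) →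
      a' ∉ centralizer (ws V q : Set G) → a * b * a⁻¹ * b⁻¹ = a' * b * a'⁻¹ * b⁻¹ := by
    intro a a' b ha ha' hb han ha'n
    have h3 : a'⁻¹ * a ∈ cw V p q := mul_mem_of_card (cw_le V p q) hcp (inv_mem ha') ha
      (fun h4 => ha'n (by have := (cw V p q).inv_mem h4; rw [inv_inv] at this; exact this.2)) (fun h4 => han h4.2)
    have h4 := mem_centralizer_iff.mp h3.2 b hb
    have h5 : a * b * a⁻¹ = a' * b * a'⁻¹ := by
      calc a * b * a⁻¹ = a' * ((a'⁻¹ * a) * b) * a⁻¹ := by group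
        _ = a' * (b * (a'⁻¹ * a)) * a⁻¹ := by rw [h4]
        _ = a' * b * a'⁻¹ := by group
    rw [h5]
  have hbb : ∀ {a b b'}, a ∈ ws V p → b ∈ ws V q → b' ∈ ws V q → b ∉ centralizer (ws V p : Set G) →
      b' ∉ centralizer (ws V p : Set G) → a * b * a⁻¹ * b⁻¹ = a * b' * a⁻¹ * b'⁻¹ := by
    intro a b b' ha hb hb' hbn hb'n
    have h3 : b⁻¹ * b' ∈ cw V q p := mul_mem_of_card (cw_le V q p) hcq (inv_mem hb) hb'
      (fun h4 => hbn (by have := (cw V q p).inv_mem h4; rw [inv_inv] at this; exact this.2)) (fun h4 => hb'n h4.2)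
    have h4 := mem_centralizer_iff.mp h3.2 a⁻¹ (inv_mem ha)
    have h5 : b * a⁻¹ * b⁻¹ = b' * a⁻¹ * b'⁻¹ := by
      calc b * a⁻¹ * b⁻¹ = b * (a⁻¹ * (b⁻¹ * b')) * b'⁻¹ := by group
        _ = b * ((b⁻¹ * b') * a⁻¹) * b'⁻¹ := by rw [h4]
        _ = b' * a⁻¹ * b'⁻¹ := by group
    calc a * b * a⁻¹ * b⁻¹ = a * (b * a⁻¹ * b⁻¹) := by group
      _ = a * (b' * a⁻¹ * b'⁻¹) := by rw [h5]
      _ = a * b' * a⁻¹ * b'⁻¹ := by group
  set v := a0 * b0 * a0⁻¹ * b0⁻¹ with hv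
  have hmul : ∀ a ∈ ws V p, ∀ b ∈ ws V q, a ∉ centralizer (ws V q : Set G) → b ∉ centralizer (ws V p : Set G) →
      a * b * a⁻¹ * b⁻¹ = v := by
    intro a ha b hb han hbn
    rw [haa ha ha0 hb han ha0n, hbb ha0 hb hb0 hbn hb0n]
  have hmem := hc.comm_mem h ha0 hb0
  have hv1 : v ≠ 1 := by
    intro e
    apply hb0n
    refine mem_centralizer_iff.mpr fun a ha => ?_
    by_cases han : a ∈ centralizer (ws V q : Set G)
    · exact (mem_centralizer_iff.mp han b0 hb0).symm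
    · have h3 := hmul a ha b0 hb0 han hb0n
      rw [e] at h3
      calc a * b0 = (a * b0 * a⁻¹ * b0⁻¹) * (b0 * a) := by group
        _ = b0 * a := by rw [h3, one_mul]
  have hcomm : ∀ {a b}, a ∈ ws V p → b ∈ ws V q → a * b * a⁻¹ * b⁻¹ = 1 ∨ a * b * a⁻¹ * b⁻¹ = v := by
    intro a b ha hb
    by_cases han : a ∈ centralizer (ws V q : Set G)
    · left; rw [← mem_centralizer_iff.mp han b hb]; group
    · by_cases hbn : b ∈ centralizer (ws V p : Set G)
      · left; rw [mem_centralizer_iff.mp hbn a ha]; group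
      · exact Or.inr (hmul a ha b hb han hbn)
  refine ⟨v, hv1, ?_, ?_, hmem.1, hmem.2, hcp, hcq, hmul⟩
  · intro e
    apply hb0n
    refine h2 ⟨hb0, mem_kq'.mpr ⟨hWp hb0, fun w hw => ?_, fun w hw => ?_⟩⟩
    · have h3 : b0 * w * b0⁻¹ * w⁻¹ = (w * b0 * w⁻¹ * b0⁻¹)⁻¹ := by group
      rw [h3]
      rcases hcomm hw hb0 with e1 | e1
      · rw [e1]; simp
      · rw [e1, e]; exact inv_mem (mem_zpowers p)
    · rw [hqin hb0]
      have h3 : b0 * w * b0 * w⁻¹ = (w * b0 * w⁻¹ * b0⁻¹)⁻¹ := by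
        rw [hqin hb0]
        have h4 : (w * b0 * w⁻¹ * b0)⁻¹ = b0⁻¹ * w * b0⁻¹ * w⁻¹ := by group
        rw [h4, hqin hb0]
      rw [h3]
      rcases hcomm hw hb0 with e1 | e1
      · rw [e1]; simp
      · rw [e1, e]; exact inv_mem (mem_zpowers p)
  · intro e
    apply ha0n
    refine h1 ⟨ha0, mem_kq'.mpr ⟨hWq ha0, fun w hw => ?_, fun w hw => ?_⟩⟩
    · rcases hcomm ha0 hw with e1 | e1
      · rw [e1]; exact one_mem _
      · rw [e1, e]; exact mem_zpowers q
    · rw [hpin ha0]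
      have h4 : a0 * w * a0 * w⁻¹ = a0 * w * a0⁻¹ * w⁻¹ := by rw [hpin ha0]
      rw [h4]
      rcases hcomm ha0 hw with e1 | e1
      · rw [e1]; exact one_mem _
      · rw [e1, e]; exact mem_zpowers q

end Cfsg.Agent.OddCyclic.EOJ.Pair
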