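import Cfsg.Agent.OddCyclic.EOJ.ClaimA

/-!
# The structure at a critical pair

* `St`, `exists_st`: the transvection of `f ∈ W_q ∖ C(W_p)` on `M_p`;
* `St.card_eight`: `y0 = 0` implies `|W_p| = 8`;
* `y_one`: (Y1); `St.sign`: (SIGN).
-/

set_option autoImplicit false
set_option linter.unusedSectionVars false
set_option linter.style.haveILetI false

namespace Cfsg.Agent.OddCyclic.EOJ.Str

open Subgroup Cfsg Cfsg.Agent.ZN Cfsg.Agent.MinSimple.Geo Cfsg.Agent.OddCyclic.GeoC Cfsg.Agent.OddCyclic.BTwoA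
  Cfsg.Agent.OddCyclic.EO.Line Cfsg.Agent.OddCyclic.EO.Base Cfsg.Agent.OddCyclic.EO.RepM
  Cfsg.Agent.OddCyclic.EO.Fit Cfsg.Agent.OddCyclic.EO.FitB Cfsg.Agent.OddCyclic.EO.Sit Cfsg.Agent.MinSimple.SecRep
  Cfsg.Agent.OddCyclic.EO.Two Cfsg.Agent.OddCyclic.EOJ.Loc Cfsg.Agent.OddCyclic.EOJ.Alg
  Cfsg.Agent.OddCyclic.EOJ.Pair Cfsg.Agent.OddCyclic.EOJ.ClaimA
open Cfsg.Agent.ZN.Block (conj_mem_of_normalizer conj_mem_of_normalizer' le_normalizer_of_forall
  mem_normalizer_of)

universe u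

variable {G : Type u} [Group G] [Finite G] {T V : Subgroup G} {z : G} {M X : Type u} [AddCommGroup M] [Group X]
  [DistribMulAction X M] {n : ℕ} {p q r v f : G} {R : Rep V p M X} {F : Subgroup X} {g : X} {y0 : M}

/-! ### conjugation of good pairs -/

theorem conj_centralizer_ws {k a x : G} (ha : k * a * k⁻¹ ∈ centralizer (ws V (k * x * k⁻¹) : Set G)) :
    a ∈ centralizer (ws V x : Set G) := by
  refine mem_centralizer_iff.mpr fun w hw => ?_
  have h1 : k * w * k⁻¹ ∈ ws V (k * x * k⁻¹) := by rw [← cj_ws]; exact conj_mem_cj hw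
  have h2 := mem_centralizer_iff.mp ha _ h1
  calc w * a = k⁻¹ * (k * w * k⁻¹ * (k * a * k⁻¹)) * k := by group
    _ = k⁻¹ * (k * a * k⁻¹ * (k * w * k⁻¹)) * k := by rw [h2]
    _ = a * w := by group

theorem conj_centralizer_ws' {k a x : G} (ha : a ∈ centralizer (ws V x : Set G)) :
    k * a * k⁻¹ ∈ centralizer (ws V (k * x * k⁻¹) : Set G) := by
  have h1 : k⁻¹ * (k * a * k⁻¹) * k⁻¹⁻¹ = a := by group
  have h2 : k⁻¹ * (k * x * k⁻¹) * k⁻¹⁻¹ = x := by group
  refine conj_centralizer_ws (k := k⁻¹) ?_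
  rw [h1, h2]; exact ha

theorem cj_cw (k : G) : cj k (cw V p q) = cw V (k * p * k⁻¹) (k * q * k⁻¹) := by
  ext a
  rw [mem_cj]
  have e : k * (k⁻¹ * a * k) * k⁻¹ = a := by group
  constructor
  · intro ha
    obtain ⟨h1, h2⟩ := mem_inf.mp ha
    refine mem_inf.mpr ⟨?_, ?_⟩
    · rw [← cj_ws, mem_cj]; exact h1
    · have := conj_centralizer_ws' (k := k) h2
      rwa [e] at this
  · intro ha
    obtain ⟨h1, h2⟩ := mem_inf.mp ha
    refine mem_inf.mpr ⟨?_, ?_⟩
    · rw [← cj_ws, mem_cj] at h1; exact h1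
    · refine conj_centralizer_ws (k := k) ?_
      rwa [e]

theorem GP.conj (gp : GP V p q v) (k : G) : GP V (k * p * k⁻¹) (k * q * k⁻¹) (k * v * k⁻¹) where
  ne := conj_ne_one gp.ne
  nep := fun e => gp.nep (conj_inj e)
  neq := fun e => gp.neq (conj_inj e)
  memp := by rw [← cj_ws]; exact conj_mem_cj gp.memp
  memq := by rw [← cj_ws]; exact conj_mem_cj gp.memq
  cp := by rw [← cj_ws, ← cj_cw, card_cj, card_cj]; exact gp.cp
  cq := by rw [← cj_ws, ← cj_cw, card_cj, card_cj]; exact gp.cq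
  mul := by
    intro a ha b hb han hbn
    rw [← cj_ws, mem_cj] at ha hb
    have e : ∀ a : G, k * (k⁻¹ * a * k) * k⁻¹ = a := fun a => by group
    have h1 := gp.mul _ ha _ hb (fun h2 => han (by
      have := conj_centralizer_ws' (k := k) h2
      rwa [e] at this)) (fun h2 => hbn (by
      have := conj_centralizer_ws' (k := k) h2
      rwa [e] at this))
    rw [← h1]; group

theorem GP.symm (h : Odd T V z) (hp : Pt z p) (gp : GP V p q v) : GP V q p v where
  ne := gp.ne
  nep := gp.neq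
  neq := gp.nep
  memp := gp.memq
  memq := gp.memp
  cp := gp.cq
  cq := gp.cp
  mul := by
    intro a ha b hb han hbn
    have h1 := gp.mul b hb a ha hbn han
    calc a * b * a⁻¹ * b⁻¹ = (b * a * b⁻¹ * a⁻¹)⁻¹ := by group
      _ = v⁻¹ := by rw [h1]
      _ = v := ws_inv h hp gp.memp

/-! ### the situation -/

structure St (V : Subgroup G) (z : G) (n : ℕ) (p q r v f : G) (R : Rep V p M X) (F : Subgroup X) (g : X) (y0 : M) :
    Prop where
  hc : Crit V z n p q
  hr : Col V p r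
  hw : Walk V (n - 1) r q
  gp : GP V p q v
  hf : f ∈ ws V q
  hfn : f ∉ centralizer (ws V p : Set G)
  ft : FT V p R F
  amb : Amb M F (R.img (ws V q))
  tv : Tv F (R.rho f) g (R.pi r) (R.pi v) y0

theorem exists_st (h : OddN T V z n) (hc : Crit V z n p q) (hr : Col V p r) (hw : Walk V (n - 1) r q)
    (gp : GP V p q v) (hf : f ∈ ws V q) (hfn : f ∉ centralizer (ws V p : Set G)) (R : Rep V p M X)
    (ft : FT V p R F) : ∃ (g : X) (y0 : M), St V z n p q r v f R F g y0 := by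
  haveI : Finite M := R.finite_left
  haveI : Finite X := R.finite_right
  have hp : Pt z p := hc.pt
  have hq : Pt z q := hc.pt' h.toGeoC
  have hWp := ws_le_q h (hc.symm h.toOdd)
  obtain ⟨hamb, hgood⟩ := ft.amb h.toOdd hp hr (A := R.img (ws V q))
    (img_ab R hWp fun a ha b hb => ws_comm h.toOdd hq ha hb) (img_sq R hWp fun a ha => ws_sq h.toOdd hq ha)
    (img_fix R hWp hr.mem_ws (ws_comm_last h hr hw.symm))
  obtain ⟨w, hww, hwn⟩ := exists_not_mem hc
  have hcom := gp.mul w hww f hf hwn hfn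
  have hvi : v⁻¹ = v := ws_inv h.toOdd hp gp.memp
  have haw : R.rho f • R.pi w - R.pi w = R.pi v := by
    rw [smul_sub_pi R (hWp hf) hww]
    congr 1
    calc f * w * f⁻¹ * w⁻¹ = (w * f * w⁻¹ * f⁻¹)⁻¹ := by group
      _ = v := by rw [hcom, hvi]
  have hv0 : R.pi v ≠ 0 := by
    rw [Ne, Rep.pi_eq_zero' h.toOdd hp R gp.memp]
    rintro (e | e)
    · exact gp.ne e
    · exact gp.nep e
  have ha1 : R.rho f ≠ 1 := by
    intro e
    rw [e, one_smul, sub_self] at haw
    exact hv0 haw.symm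
  have hpC : p ∈ cw V p q := ⟨self_mem_ws h.toGeoC hp, mem_centralizer_iff.mpr fun w hw =>
    mem_centralizer_singleton_iff.mp (hWp hw)⟩
  have hE := card_push h.toOdd hp R (cw_le V p q) hpC
  have hEfx : push R (cw V p q) (cw_le V p q) ≤ fx (zpowers (R.rho f)) (⊤ : AddSubgroup M) := by
    rintro _ ⟨d, hd, rfl⟩
    refine fx_zpowers (AddSubgroup.mem_top _) ?_
    exact smul_of_comm R (hWp hf) (cw_le V p q hd) (mem_centralizer_iff.mp hd.2 f hf)
  have hEc := card_mono hEfx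
  have hM := card_M h.toOdd hp R
  have hcp := gp.cp
  obtain ⟨g, c, y, tv⟩ := exists_tv hamb hgood R.faithful (R.rho_mem_img hWp hf) ha1
    (Rep.pi_line_ne_zero h.toOdd hp R hr) (by omega)
  have hc' : R.pi v = c := by
    rcases tv.trans (Rep.two h.toOdd hp R) (R.pi w) with e | e
    · rw [e, sub_self] at haw; exact absurd haw.symm hv0
    · rw [e, add_sub_cancel_left] at haw; exact haw.symm
  rw [← hc'] at tv
  exact ⟨g, y, hc, hr, hw, gp, hf, hfn, ft, hamb, tv⟩

namespace St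

theorem pt (s : St V z n p q r v f R F g y0) : Pt z p := s.hc.pt

theorem pt_q (h : OddN T V z n) (s : St V z n p q r v f R F g y0) : Pt z q := s.hc.pt' h.toGeoC

theorem pt_r (h : OddN T V z n) (s : St V z n p q r v f R F g y0) : Pt z r := s.hr.pt h.toGeoC

theorem two (h : OddN T V z n) (s : St V z n p q r v f R F g y0) (m : M) : m + m = 0 := Rep.two h.toOdd s.pt R m

theorem le_q (h : OddN T V z n) (s : St V z n p q r v f R F g y0) : ws V p ≤ centralizer ({q} : Set G) :=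
  ws_le_q h s.hc

theorem le_p (h : OddN T V z n) (s : St V z n p q r v f R F g y0) : ws V q ≤ centralizer ({p} : Set G) :=
  ws_le_q h (s.hc.symm h.toOdd)

theorem f_p (h : OddN T V z n) (s : St V z n p q r v f R F g y0) : f ∈ centralizer ({p} : Set G) := s.le_p h s.hf

theorem comm_p (h : OddN T V z n) (s : St V z n p q r v f R F g y0) {a b : G} (ha : a ∈ ws V p) (hb : b ∈ ws V p) :
    a * b = b * a := ws_comm h.toOdd s.pt ha hb

theorem sq_p (h : OddN T V z n) (s : St V z n p q r v f R F g y0) {a : G} (ha : a ∈ ws V p) : a * a = 1 :=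
  ws_sq h.toOdd s.pt ha

theorem inv_p (h : OddN T V z n) (s : St V z n p q r v f R F g y0) {a : G} (ha : a ∈ ws V p) : a⁻¹ = a :=
  ws_inv h.toOdd s.pt ha

theorem r_mem (s : St V z n p q r v f R F g y0) : r ∈ ws V p := s.hr.mem_ws

theorem p_mem (h : OddN T V z n) (s : St V z n p q r v f R F g y0) : p ∈ ws V p := self_mem_ws h.toGeoC s.pt

theorem y_mem (s : St V z n p q r v f R F g y0) : r * v ∈ ws V p := mul_mem s.r_mem s.gp.memp

/-- `W_q` and `W_r` commute -/
theorem comm_rq (h : OddN T V z n) (s : St V z n p q r v f R F g y0) : ws V q ≤ centralizer (ws V r : Set G) :=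
  comm_of_walk h (s.pt_r h) (Nat.sub_lt h.pos Nat.one_pos) s.hw

theorem fr (h : OddN T V z n) (s : St V z n p q r v f R F g y0) : f * r = r * f :=
  (mem_centralizer_iff.mp (s.comm_rq h s.hf) r (self_mem_ws h.toGeoC (s.pt_r h))).symm

theorem fv (h : OddN T V z n) (s : St V z n p q r v f R F g y0) : f * v = v * f :=
  ws_comm h.toOdd (s.pt_q h) s.hf s.gp.memq

theorem fy (h : OddN T V z n) (s : St V z n p q r v f R F g y0) : f * (r * v) = r * v * f := by
  rw [← mul_assoc, s.fr h, mul_assoc, s.fv h, mul_assoc]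

theorem pi_y (h : OddN T V z n) (s : St V z n p q r v f R F g y0) : R.pi (r * v) = y0 := by
  rw [R.pi_mul r s.r_mem v s.gp.memp, s.tv.add, add_right_comm, s.two h, zero_add]

theorem f_cases (h : OddN T V z n) (s : St V z n p q r v f R F g y0) {w : G} (hw : w ∈ ws V p) :
    f * w * f⁻¹ = w ∨ f * w * f⁻¹ = w * v := by
  have e0 : f * w * f⁻¹ = (w * f * w⁻¹ * f⁻¹)⁻¹ * w := by group
  rcases s.gp.comm hw s.hf with e | e
  · left; rw [e0, e]; group
  · right; rw [e0, e, s.inv_p h s.gp.memp, s.comm_p h s.gp.memp hw]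

theorem f_move (h : OddN T V z n) (s : St V z n p q r v f R F g y0) {w : G} (hw : w ∈ ws V p)
    (hm : R.rho f • R.pi w ≠ R.pi w) : f * w * f⁻¹ = w * v := by
  refine (s.f_cases h hw).resolve_left fun e => hm ?_
  exact smul_of_comm R (s.f_p h) hw (mul_inv_eq_iff_eq_mul.mp e)

theorem finite_X (_ : St V z n p q r v f R F g y0) : Finite X := R.finite_right

theorem finite_M (_ : St V z n p q r v f R F g y0) : Finite M := R.finite_left

/-- the odd lift of `g` -/
theorem exists_eta (s : St V z n p q r v f R F g y0) :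
    ∃ η ∈ centralizer ({p} : Set G), R.rho η = g ∧ _root_.Odd (orderOf η) := by
  refine Loc.exists_lift R (j := 1) Nat.prime_three (by norm_num) ?_
  rw [s.tv.g3, pow_one]

/-- `y0 = 0` implies `|W| = 8` -/
theorem card_eight (h : OddN T V z n) (s : St V z n p q r v f R F g y0) (hy : y0 = 0) : Nat.card (ws V z) = 8 := by
  haveI := s.finite_X
  haveI := s.finite_M
  have two := s.two h
  have tv := s.tv
  have hl : R.pi r = R.pi v := by rw [tv.add, hy, add_zero]
  let N : AddSubgroup M :=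
    { carrier := {m | m + g • m + g • g • m = 0}
      add_mem' := by
        intro a b ha hb
        change (a + b) + g • (a + b) + g • g • (a + b) = 0
        simp only [smul_add]
        have : (a + b) + (g • a + g • b) + (g • g • a + g • g • b) =
            (a + g • a + g • g • a) + (b + g • b + g • g • b) := by abel
        rw [this, ha, hb, add_zero]
      zero_mem' := by simp
      neg_mem' := by
        intro a ha
        change -a + g • (-a) + g • g • (-a) = 0
        simp only [smul_neg]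
        have : -a + -(g • a) + -(g • g • a) = -(a + g • a + g • g • a) := by abel
        rw [this, ha, neg_zero] }
  have hN : N = ⊤ := by
    refine Rep.eq_top_of_line h.toOdd s.pt R s.hr N fun x => ?_
    rw [hl]
    exact tv.smul_sum s.amb x tv.sum
  have hmem : ∀ m : M, m = 0 ∨ m = R.pi v ∨ m = g • R.pi v ∨ m = g • g • R.pi v := by
    intro m
    obtain ⟨m0, h0, h1⟩ := tv.dec m
    have h2 : m0 ∈ N := by rw [hN]; exact AddSubgroup.mem_top _
    have h3 : m0 = 0 := Tv.eq_zero two h0 h2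
    rw [h3] at h1
    simpa using h1
  have h4 : Nat.card M = 4 := by
    classical
    have hgc := tv.gc_ne two
    have hgc0 := tv.gc_ne_zero
    have hggc0 : g • g • R.pi v ≠ 0 := fun e => hgc0 (smul_left_cancel g (by rw [e, smul_zero]))
    have hggc : g • g • R.pi v ≠ g • R.pi v := fun e => hgc (smul_left_cancel g e)
    have hggc' : g • g • R.pi v ≠ R.pi v := by
      intro e
      have h1 := tv.ggg' (R.pi v)
      rw [e] at h1
      exact hgc h1
    have h4 : Set.ncard ({0, R.pi v, g • R.pi v, g • g • R.pi v} : Set M) = 4 := by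
      rw [Set.ncard_insert_of_notMem, Set.ncard_insert_of_notMem, Set.ncard_insert_of_notMem,
        Set.ncard_singleton]
      · simpa using Ne.symm hggc
      · simp only [Set.mem_insert_iff, Set.mem_singleton_iff, not_or]
        exact ⟨Ne.symm hgc, Ne.symm hggc'⟩
      · simp only [Set.mem_insert_iff, Set.mem_singleton_iff, not_or]
        exact ⟨Ne.symm tv.c0, Ne.symm hgc0, Ne.symm hggc0⟩
    have h5 : ({0, R.pi v, g • R.pi v, g • g • R.pi v} : Set M) = Set.univ := by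
      rw [Set.eq_univ_iff_forall]
      intro m
      simpa using hmem m
    rw [← Set.ncard_univ, ← h5, h4]
  have hM := card_M h.toOdd s.pt R
  rw [card_ws_eq (Pt.refl z) s.pt, hM, h4]

end St

/-! ### (Y1) -/

theorem y_one (h : OddN T V z n) {q' r' v' : G} (hc : Crit V z n p q) (hr : Col V p r) (hw : Walk V (n - 1) r q)
    (gp : GP V p q v) (hc' : Crit V z n p q') (hr' : Col V p r') (hw' : Walk V (n - 1) r' q')
    (gp' : GP V p q' v') (e : r' = r ∨ r' = p * r) : v' = v ∨ v' = p * v := by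
  have hp : Pt z p := hc.pt
  obtain ⟨M, X, _, _, _, ⟨R⟩⟩ := exists_rep h.toOdd hp
  haveI : Finite M := R.finite_left
  haveI : Finite X := R.finite_right
  obtain ⟨F, ft⟩ := exists_ft h.toOdd hp R
  obtain ⟨f, hf, hfn⟩ := exists_not_mem (hc.symm h.toOdd)
  obtain ⟨f', hf', hfn'⟩ := exists_not_mem (hc'.symm h.toOdd)
  obtain ⟨g, y0, s⟩ := exists_st h hc hr hw gp hf hfn R ft
  obtain ⟨g', y0', s'⟩ := exists_st h hc' hr' hw' gp' hf' hfn' R ft
  have hrr : R.pi r' = R.pi r := (Rep.pi_eq_pi h.toOdd hp R hr'.mem_ws hr.mem_ws).mpr e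
  have t' := s'.tv
  rw [hrr] at t'
  exact (Rep.pi_eq_pi h.toOdd hp R gp'.memp gp.memp).mp (s.tv.uniq s.amb t').1.symm

/-! ### (SIGN) -/

/-- the elements of `C(p)` fixing `c`, `g • c`, `y0` -/
def jj (R : Rep V p M X) (g : X) (c y0 : M) : Subgroup G where
  carrier := {k | k ∈ centralizer ({p} : Set G) ∧ R.rho k • c = c ∧ R.rho k • g • c = g • c ∧ R.rho k • y0 = y0}
  mul_mem' := by
    rintro a b ⟨ha, h1, h2, h3⟩ ⟨hb, h4, h5, h6⟩
    refine ⟨mul_mem ha hb, ?_, ?_, ?_⟩
    · rw [R.rho_mul a ha b hb, mul_smul, h4, h1]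
    · rw [R.rho_mul a ha b hb, mul_smul, h5, h2]
    · rw [R.rho_mul a ha b hb, mul_smul, h6, h3]
  one_mem' := ⟨one_mem _, by rw [R.rho_one, one_smul], by rw [R.rho_one, one_smul], by rw [R.rho_one, one_smul]⟩
  inv_mem' := by
    rintro a ⟨ha, h1, h2, h3⟩
    refine ⟨inv_mem ha, ?_, ?_, ?_⟩
    · rw [R.rho_inv ha, inv_smul_eq_iff, h1]
    · rw [R.rho_inv ha, inv_smul_eq_iff, h2]
    · rw [R.rho_inv ha, inv_smul_eq_iff, h3]

theorem mem_jj {R : Rep V p M X} {c : M} {k : G} : k ∈ jj R g c y0 ↔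
    k ∈ centralizer ({p} : Set G) ∧ R.rho k • c = c ∧ R.rho k • g • c = g • c ∧ R.rho k • y0 = y0 := Iff.rfl

namespace St

/-- an element of `C(p)` fixing the line vector -/
theorem jj_cases (h : OddN T V z n) (s : St V z n p q r v f R F g y0) {t : G} (ht : t ∈ centralizer ({p} : Set G))
    (htl : R.rho t • R.pi r = R.pi r) : t ∈ jj R g (R.pi v) y0 ∨ f⁻¹ * t ∈ jj R g (R.pi v) y0 := by
  haveI := s.finite_X
  haveI := s.finite_M
  have two := s.two h
  have tv := s.tv
  have hfp := s.f_p h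
  obtain ⟨h1, h2⟩ := tv.smul_c s.amb htl
  obtain ⟨h3, h4⟩ := tv.smul_c s.amb tv.fixl
  rcases tv.smul_gc s.amb htl with e | e
  · exact Or.inl ⟨ht, h1, e, h2⟩
  · right
    refine ⟨mul_mem (inv_mem hfp) ht, ?_, ?_, ?_⟩
    · rw [R.rho_mul _ (inv_mem hfp) t ht, R.rho_inv hfp, mul_smul, h1, inv_smul_eq_iff, h3]
    · rw [R.rho_mul _ (inv_mem hfp) t ht, R.rho_inv hfp, mul_smul, e, inv_smul_eq_iff, tv.agc two, tv.ggc two, add_comm]
    · rw [R.rho_mul _ (inv_mem hfp) t ht, R.rho_inv hfp, mul_smul, h2, inv_smul_eq_iff, h4]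

/-- the Sylow subgroup at `p` -/
theorem exists_T (h : OddN T V z n) (s : St V z n p q r v f R F g y0) : ∃ T' L : Subgroup G, Odd T' L p ∧ r ∈ L ∧
    ws L p = ws V p ∧ ∀ t ∈ T', t ∈ centralizer ({p} : Set G) ∧ (t * r * t⁻¹ = r ∨ t * r * t⁻¹ = p * r) := by
  obtain ⟨k, hk, hrk, h'⟩ := exists_odd_col h.toOdd s.hr
  refine ⟨_, _, h', hrk, ws_cj V k p, fun t ht => ⟨h'.T_le ht, ?_⟩⟩
  exact h'.conj_cases h'.z_mem hrk h'.z_ne (mem_centralizer_singleton_iff.mp (h'.T_le ht)) (h'.T_norm ht)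

theorem smul_r (h : OddN T V z n) (s : St V z n p q r v f R F g y0) {t : G} (ht : t ∈ centralizer ({p} : Set G))
    (e : t * r * t⁻¹ = r ∨ t * r * t⁻¹ = p * r) : R.rho t • R.pi r = R.pi r := by
  rw [R.smul_pi t ht r s.r_mem]
  exact (Rep.pi_eq_pi h.toOdd s.pt R (R.conj_mem ht s.r_mem) s.r_mem).mpr e

/-- `f` normalizes `jj` -/
theorem f_jj (h : OddN T V z n) (s : St V z n p q r v f R F g y0) {k : G} (hk : k ∈ jj R g (R.pi v) y0) :
    f⁻¹ * k * f ∈ jj R g (R.pi v) y0 := by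
  haveI := s.finite_X
  haveI := s.finite_M
  have two := s.two h
  have tv := s.tv
  have hfp := s.f_p h
  obtain ⟨h3, h4⟩ := tv.smul_c s.amb tv.fixl
  obtain ⟨hkp, k1, k2, k3⟩ := hk
  have e : ∀ m : M, R.rho (f⁻¹ * k * f) • m = (R.rho f)⁻¹ • R.rho k • R.rho f • m := by
    intro m
    rw [R.rho_mul _ (mul_mem (inv_mem hfp) hkp) f hfp, R.rho_mul _ (inv_mem hfp) k hkp, R.rho_inv hfp, mul_smul,
      mul_smul]
  refine ⟨mul_mem (mul_mem (inv_mem hfp) hkp) hfp, ?_, ?_, ?_⟩
  · rw [e, h3, k1, inv_smul_eq_iff, h3]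
  · rw [e, tv.agc two, smul_add, k2, k1, inv_smul_eq_iff, tv.agc two]
  · rw [e, h4, k3, inv_smul_eq_iff, h4]

/-- `C_{W_p}(J) = ⟨p⟩` -/
theorem cent_jj (h : OddN T V z n) (s : St V z n p q r v f R F g y0) {w : G} (hw : w ∈ ws V p)
    (hc : ∀ k ∈ jj R g (R.pi v) y0, k * w = w * k) : w = 1 ∨ w = p := by
  obtain ⟨T', L, h', hrL, hL, hT⟩ := s.exists_T h
  have key : ∀ w ∈ ws V p, (∀ k ∈ jj R g (R.pi v) y0, k * w = w * k) → f * w = w * f → w = 1 ∨ w = p := by
    intro w hw hc hfw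
    refine h'.soc w (h'.ws_le_T (by rw [hL]; exact hw)) (s.sq_p h hw) fun t ht => ?_
    obtain ⟨h1, h2⟩ := hT t ht
    rcases s.jj_cases h h1 (s.smul_r h h1 h2) with h3 | h3
    · exact hc t h3
    · have h4 := hc _ h3
      calc t * w = f * ((f⁻¹ * t) * w) := by group
        _ = (f * w) * (f⁻¹ * t) := by rw [h4]; group
        _ = w * t := by rw [hfw]; group
  rcases s.f_cases h hw with e | e
  · exact key w hw hc (mul_inv_eq_iff_eq_mul.mp e)
  · exfalso
    have h1 : ∀ k ∈ jj R g (R.pi v) y0, k * v = v * k := by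
      intro k hk
      have h2 := hc _ (s.f_jj h hk)
      have h3 : k * (f * w * f⁻¹) = (f * w * f⁻¹) * k := by
        calc k * (f * w * f⁻¹) = f * ((f⁻¹ * k * f) * w) * f⁻¹ := by group
          _ = f * (w * (f⁻¹ * k * f)) * f⁻¹ := by rw [h2]
          _ = (f * w * f⁻¹) * k := by group
      rw [e] at h3
      have h4 := hc k hk
      calc k * v = w⁻¹ * (w * k) * v := by group
        _ = w⁻¹ * (k * (w * v)) := by rw [← h4]; group
        _ = v * k := by rw [h3]; group
    rcases key v s.gp.memp h1 (s.fv h) with e1 | e1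
    · exact s.gp.ne e1
    · exact s.gp.nep e1

/-- elements fixed modulo `p` by `J` -/
def fj (R : Rep V p M X) (g : X) (c y0 : M) : Subgroup G where
  carrier := {w | w ∈ ws V p ∧ ∀ k ∈ jj R g c y0, R.rho k • R.pi w = R.pi w}
  mul_mem' := by
    rintro a b ⟨ha, h1⟩ ⟨hb, h2⟩
    refine ⟨mul_mem ha hb, fun k hk => ?_⟩
    rw [R.pi_mul a ha b hb, smul_add, h1 k hk, h2 k hk]
  one_mem' := ⟨one_mem _, fun k _ => by rw [R.pi_one, smul_zero]⟩
  inv_mem' := by
    rintro a ⟨ha, h1⟩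
    refine ⟨inv_mem ha, fun k hk => ?_⟩
    rw [R.pi_inv ha, smul_neg, h1 k hk]

theorem mem_fj {R : Rep V p M X} {c : M} {w : G} : w ∈ fj R g c y0 ↔ w ∈ ws V p ∧ ∀ k ∈ jj R g c y0,
    R.rho k • R.pi w = R.pi w := Iff.rfl

theorem p_fj (h : OddN T V z n) (s : St V z n p q r v f R F g y0) : p ∈ fj R g (R.pi v) y0 :=
  ⟨s.p_mem h, fun k _ => by rw [Rep.pi_self h.toOdd s.pt R, smul_zero]⟩

theorem r_fj (s : St V z n p q r v f R F g y0) : r ∈ fj R g (R.pi v) y0 :=
  ⟨s.r_mem, fun _ hk => by rw [s.tv.add, smul_add, hk.2.1, hk.2.2.2]⟩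

theorem v_fj (s : St V z n p q r v f R F g y0) : v ∈ fj R g (R.pi v) y0 :=
  ⟨s.gp.memp, fun _ hk => hk.2.1⟩

/-- **(SIGN)** -/
theorem sign (h : OddN T V z n) (s : St V z n p q r v f R F g y0) {W : Subgroup G} (hW : W ≤ fj R g (R.pi v) y0)
    (hpW : p ∈ W) {a : G} (ha : a ∈ fj R g (R.pi v) y0) (haW : a ∉ W) :
    ∃ k ∈ jj R g (R.pi v) y0, (∀ w ∈ W, k * w = w * k) ∧ k * a * k⁻¹ = p * a := by
  set J := jj R g (R.pi v) y0 with hJ
  have hpp : p * p = 1 := Pt.sq h.toGeoC s.pt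
  have hp1 : p ≠ 1 := Pt.ne_one h.toGeoC s.pt
  have hJp : ∀ k ∈ J, p * k = k * p := fun k hk => (mem_centralizer_singleton_iff.mp hk.1).symm
  have hcase : ∀ w ∈ fj R g (R.pi v) y0, ∀ k ∈ J, k * w * k⁻¹ = w ∨ k * w * k⁻¹ = p * w := by
    intro w hw k hk
    have h1 := hw.2 k hk
    rw [R.smul_pi k hk.1 w hw.1] at h1
    exact (Rep.pi_eq_pi h.toOdd s.pt R (R.conj_mem hk.1 hw.1) hw.1).mp h1
  have hcount : ∀ W' : Subgroup G, W' ≤ fj R g (R.pi v) y0 → p ∈ W' →
      2 * Nat.card J = Nat.card W' * Nat.card ↥(J ⊓ centralizer (W' : Set G)) := by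
    intro W' hW' hpW'
    have h1 := BTwoD.pairing (A := W') (B := J) hpp hp1
      (fun w hw => s.comm_p h (s.p_mem h) (hW' hw).1) hJp (fun w hw k hk => by
        rcases hcase w (hW' hw) k hk with e | e
        · left; exact (mul_inv_eq_iff_eq_mul.mp e).symm
        · right
          have h2 : k * w = p * w * k := mul_inv_eq_iff_eq_mul.mp e
          calc w * k = p * p * w * k := by rw [hpp, one_mul]
            _ = p * (p * w * k) := by group
            _ = p * (k * w) := by rw [h2])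
    have h2 : W' ⊓ centralizer (J : Set G) = zpowers p := by
      apply le_antisymm
      · intro w hw
        rw [mem_zpowers_iff_of_mul_self hpp]
        exact s.cent_jj h (hW' hw.1).1 fun k hk => mem_centralizer_iff.mp hw.2 k hk
      · rw [zpowers_le]
        exact ⟨hpW', mem_centralizer_iff.mpr fun k hk => (hJp k hk).symm⟩
    rw [h2, card_zp h.toOdd s.pt] at h1
    exact h1
  set W' := W ⊔ zpowers a with hW'
  have hWW' : W ≤ W' := le_sup_left
  have haW' : a ∈ W' := le_sup_right (a := W) (mem_zpowers a)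
  have hW'f : W' ≤ fj R g (R.pi v) y0 := sup_le hW (zpowers_le.mpr ha)
  have h1 := hcount W hW hpW
  have h2 := hcount W' hW'f (hWW' hpW)
  have h3 := EO.Count.two_mul_card_le hWW' haW' haW
  have hpos : 0 < Nat.card ↥(J ⊓ centralizer (W : Set G)) := Nat.card_pos
  have hposW : 0 < Nat.card W := Nat.card_pos
  obtain ⟨k, hk, hkn⟩ : ∃ k ∈ J ⊓ centralizer (W : Set G), k ∉ J ⊓ centralizer (W' : Set G) := by
    by_contra hcon
    push Not at hcon
    have h4 : Nat.card ↥(J ⊓ centralizer (W : Set G)) ≤ Nat.card ↥(J ⊓ centralizer (W' : Set G)) := card_le_of_le hcon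
    rw [h1] at h2
    have h5 : (2 * Nat.card W) * Nat.card ↥(J ⊓ centralizer (W : Set G)) ≤
        Nat.card W * Nat.card ↥(J ⊓ centralizer (W : Set G)) := by
      rw [h2]; exact Nat.mul_le_mul h3 h4
    have h6 := Nat.le_of_mul_le_mul_right h5 hpos
    omega
  refine ⟨k, hk.1, fun w hw => (mem_centralizer_iff.mp hk.2 w hw).symm, ?_⟩
  refine (hcase a ha k hk.1).resolve_left fun e => hkn ⟨hk.1, ?_⟩
  have h4 : W' ≤ centralizer ({k} : Set G) := by
    refine sup_le (fun w hw => mem_centralizer_singleton_iff.mpr (mem_centralizer_iff.mp hk.2 w hw)) ?_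
    rw [zpowers_le]
    exact mem_centralizer_singleton_iff.mpr (mul_inv_eq_iff_eq_mul.mp e).symm
  exact mem_centralizer_iff.mpr fun w hw => mem_centralizer_singleton_iff.mp (h4 hw)

end St

end Cfsg.Agent.OddCyclic.EOJ.Str
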